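/-
Finiteness over a finite constant field: places, effective divisors, classes.
-/
import Groth.Agent.L26.FF.RR
import Groth.Agent.L26.FF.Closed
import Groth.Prelude.Def_W4bk4goldsch45
import Mathlib.RingTheory.Polynomial.DegreeLT
import Mathlib.LinearAlgebra.FreeModule.Finite.Basic
import Mathlib.FieldTheory.Finiteness
import Mathlib.Data.Int.Interval
import Mathlib.Data.Fintype.BigOperators

open WithZero IntermediateField

namespace Groth.Agent.Zeta

open FunFld Groth.Agent.FF

variable {k K : Type*} [Field k] [Field K] [Algebra k K]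

lemma degHom_apply (D : Divisor k K) : degHom k K D = D.deg := rfl

lemma mem_prinDivs (hK : IsFF k K) {D : Divisor k K} :
    D ∈ prinDivs k K ↔ ∃ z : K, z ≠ 0 ∧ div k z = D := by
  constructor
  · intro h
    induction h using AddSubgroup.closure_induction with
    | mem x hx =>
      obtain ⟨z, rfl⟩ := hx
      rcases eq_or_ne z 0 with rfl | hz
      · exact ⟨1, one_ne_zero, by rw [← map_one (algebraMap k K), div_const hK, div_zero' hK]⟩
      · exact ⟨z, hz, rfl⟩
    | zero => exact ⟨1, one_ne_zero, by rw [← map_one (algebraMap k K), div_const hK]⟩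
    | add x y _ _ hx hy =>
      obtain ⟨a, ha, rfl⟩ := hx
      obtain ⟨b, hb, rfl⟩ := hy
      exact ⟨a * b, mul_ne_zero ha hb, Groth.Agent.FF.div_mul hK ha hb⟩
    | neg x _ hx =>
      obtain ⟨a, ha, rfl⟩ := hx
      exact ⟨a⁻¹, inv_ne_zero ha, div_inv hK a⟩
  · rintro ⟨z, -, rfl⟩
    exact AddSubgroup.subset_closure ⟨z, rfl⟩

/-- The residue class of an element integral at `P` is killed by a polynomial of degree `≤ P.deg`. -/
lemma exists_poly_residue (hK : IsFF k K) (P : Place k K) {x : K} (hx : P.1 x ≤ 1) :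
    ∃ p : Polynomial k, p ≠ 0 ∧ p.natDegree ≤ P.deg ∧ P.1 (Polynomial.aeval x p) < 1 := by
  classical
  have hfin := finite_residueField hK P
  have : @Module.Finite k (IsLocalRing.ResidueField P.O) _ _ Algebra.toModule := hfin
  have : Algebra.IsIntegral k (IsLocalRing.ResidueField P.O) := Algebra.IsIntegral.of_finite k _
  set r : IsLocalRing.ResidueField P.O := resMap P ⟨x, hx⟩ with hr
  refine ⟨minpoly k r, minpoly.ne_zero (Algebra.IsIntegral.isIntegral r),
    minpoly.natDegree_le r, ?_⟩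
  let ι : P.O →ₐ[k] K := { P.O.toSubring.subtype with commutes' := fun _ => rfl }
  have h := minpoly.aeval k r
  conv at h in r => rw [hr]
  rw [Polynomial.aeval_algHom_apply, residue_eq_zero] at h
  have e : ι (Polynomial.aeval (⟨x, hx⟩ : P.O) (minpoly k r)) = Polynomial.aeval x (minpoly k r) :=
    (Polynomial.aeval_algHom_apply ι (⟨x, hx⟩ : P.O) (minpoly k r)).symm
  rw [← e]
  exact h

variable [Finite k]

/-- Finitely many places of bounded degree. -/
theorem finite_places_deg_le (hK : IsFF k K) (n : ℕ) : {P : Place k K | P.deg ≤ n}.Finite := by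
  classical
  obtain ⟨x, hx, -⟩ := id hK
  have hx' : Transcendental k x⁻¹ := fun h => hx (by simpa using h.inv)
  haveI : Finite (Polynomial.degreeLT k (n + 1)) := Finite.of_equiv _ (Polynomial.degreeLTEquiv k (n + 1)).toEquiv.symm
  let S : Set (Polynomial.degreeLT k (n + 1)) := {p | (p : Polynomial k) ≠ 0}
  refine ((finite_zeros hK hx').union (Set.Finite.biUnion (Set.toFinite S) (t := fun p =>
    {P : Place k K | P.1 (Polynomial.aeval x (p : Polynomial k)) < 1}) fun p hp => ?_)).subset ?_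
  · by_cases hd : (p : Polynomial k).natDegree = 0
    · refine Set.Finite.subset Set.finite_empty fun P hP => ?_
      obtain ⟨c, hc⟩ := Polynomial.natDegree_eq_zero.1 hd
      have hc0 : c ≠ 0 := fun h => hp (by rw [← hc, h, map_zero])
      simp only [Set.mem_ofPred_eq, ← hc, Polynomial.aeval_C, val_const P hc0, lt_self_iff_false] at hP
    · exact finite_zeros hK (hx.aeval _ hd (mem_nonZeroDivisors_of_ne_zero (Polynomial.leadingCoeff_ne_zero.2 hp)))
  · intro P hP
    by_cases hxP : P.1 x ≤ 1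
    · obtain ⟨p, hp0, hpd, hpv⟩ := exists_poly_residue hK P hxP
      have hpm : p ∈ Polynomial.degreeLT k (n + 1) := by
        rw [Polynomial.mem_degreeLT, Polynomial.degree_eq_natDegree hp0]
        exact_mod_cast (show p.natDegree < n + 1 by have : P.deg ≤ n := hP; omega)
      exact Or.inr (Set.mem_biUnion (x := (⟨p, hpm⟩ : Polynomial.degreeLT k (n + 1))) hp0 hpv)
    · exact Or.inl (by
        show P.1 x⁻¹ < 1
        rw [map_inv₀]
        exact inv_lt_one_of_one_lt₀ (not_le.1 hxP))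

omit [Finite k] in
lemma coe_le_deg_of_nonneg {D : Divisor k K} (hD : 0 ≤ D) (P : Place k K) :
    D P * (P.deg : ℤ) ≤ D.deg := by
  classical
  rw [deg_eq_sum (s := insert P D.support) (Finset.subset_insert _ _)]
  exact Finset.single_le_sum (f := fun Q => D Q * (Q.deg : ℤ))
    (fun Q _ => mul_nonneg (hD Q) (Int.natCast_nonneg _)) (Finset.mem_insert_self _ _)

/-- Finitely many effective divisors of a given degree. -/
theorem finite_eff (hK : IsFF k K) (n : ℕ) : {D : Divisor k K | 0 ≤ D ∧ D.deg = n}.Finite := by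
  classical
  let S := (finite_places_deg_le hK n).toFinset
  haveI : Finite (S → Finset.Icc (0 : ℤ) n) := inferInstance
  refine Set.finite_coe_iff.1 (Finite.of_injective (β := S → Finset.Icc (0 : ℤ) n)
    (fun D P => ⟨D.1 P.1, Finset.mem_Icc.2 ⟨D.2.1 P.1, ?_⟩⟩) fun D E h => Subtype.ext (Finsupp.ext fun P => ?_))
  · have h1 := coe_le_deg_of_nonneg D.2.1 P.1
    have h2 : (1 : ℤ) ≤ P.1.deg := by exact_mod_cast one_le_deg hK P.1
    have := D.2.1 P.1
    rw [D.2.2] at h1
    simp only [Finsupp.zero_apply] at this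
    nlinarith
  · by_cases hP : P ∈ S
    · exact congrArg Subtype.val (congrFun h ⟨P, hP⟩)
    · have hdeg : n < P.deg := not_le.1 fun hle => hP ((finite_places_deg_le hK n).mem_toFinset.2 hle)
      have h0 : ∀ F : {D : Divisor k K | 0 ≤ D ∧ D.deg = n}, F.1 P = 0 := fun F => by
        have h1 := coe_le_deg_of_nonneg F.2.1 P
        have h2 := F.2.1 P
        rw [F.2.2] at h1
        simp only [Finsupp.zero_apply] at h2
        by_contra hne
        have : (1 : ℤ) ≤ F.1 P := by omega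
        have : (n : ℤ) < P.deg := by exact_mod_cast hdeg
        nlinarith
      rw [h0, h0]

/-- The degree zero class group. -/
abbrev Cl (k K : Type*) [Field k] [Field K] [Algebra k K] :=
  (degHom k K).ker ⧸ (prinDivs k K).addSubgroupOf (degHom k K).ker

/-- The class of an effective divisor relative to a base divisor of the same degree. -/
noncomputable def clOf (D₀ : Divisor k K) (n : ℤ) (hD₀ : D₀.deg = n)
    (E : {E : Divisor k K // 0 ≤ E ∧ E.deg = n}) : Cl k K :=
  QuotientAddGroup.mk ⟨E.1 - D₀, by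
    rw [AddMonoidHom.mem_ker, degHom_apply, deg_sub, E.2.2, hD₀, sub_self]⟩

omit [Finite k] in
lemma clOf_eq_iff (hK : IsFF k K) (D₀ : Divisor k K) (n : ℤ) (hD₀ : D₀.deg = n)
    (E : {E : Divisor k K // 0 ≤ E ∧ E.deg = n}) (D : (degHom k K).ker) :
    clOf D₀ n hD₀ E = QuotientAddGroup.mk D ↔
      ∃ z : K, z ≠ 0 ∧ E.1 = div k z + (D.1 + D₀) := by
  rw [clOf, QuotientAddGroup.eq, AddSubgroup.mem_addSubgroupOf, mem_prinDivs hK]
  constructor
  · rintro ⟨z, hz, h⟩
    refine ⟨z⁻¹, inv_ne_zero hz, ?_⟩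
    rw [div_inv hK, h]
    simp only [AddSubgroup.coe_add, AddSubgroup.coe_neg]
    abel
  · rintro ⟨z, hz, h⟩
    refine ⟨z⁻¹, inv_ne_zero hz, ?_⟩
    rw [div_inv hK]
    simp only [AddSubgroup.coe_add, AddSubgroup.coe_neg, h]
    abel

omit [Finite k] in
lemma exists_deg_ge (hK : IsFunctionField k K) (m : ℕ) :
    ∃ D : Divisor k K, (m : ℤ) ≤ D.deg := by
  obtain ⟨P⟩ := nonempty_place hK
  refine ⟨Finsupp.single P (m : ℤ), ?_⟩
  rw [deg_single]
  have : (1 : ℤ) ≤ P.deg := by exact_mod_cast one_le_deg hK.1 P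
  nlinarith

/-- The class group is finite. -/
theorem finite_cl (hK : IsFunctionField k K) : Finite (Cl k K) := by
  obtain ⟨D₀, hD⟩ := exists_deg_ge hK (2 * genus k K)
  obtain ⟨n, hn⟩ : ∃ n : ℕ, D₀.deg = n := ⟨D₀.deg.toNat, by omega⟩
  haveI : Finite {E : Divisor k K // 0 ≤ E ∧ E.deg = n} := (finite_eff hK.1 n).to_subtype
  refine Finite.of_surjective (α := {E : Divisor k K // 0 ≤ E ∧ E.deg = n}) (clOf D₀ n hn) fun c => ?_
  induction c using QuotientAddGroup.induction_on with
  | H D =>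
    have hdeg : (D.1 + D₀).deg = n := by
      rw [deg_add, ← degHom_apply, AddMonoidHom.mem_ker.1 D.2, zero_add, hn]
    have h1 := ell_eq_of_deg_ge hK (D := D.1 + D₀) (by rw [hdeg]; omega)
    obtain ⟨z, hz, hz0⟩ := exists_ne_zero_of_ell_pos (D := D.1 + D₀) (by omega)
    exact ⟨⟨div k z + (D.1 + D₀), (mem_L_iff_div hK.1 hz0).1 hz,
      by rw [deg_add, deg_div hK.1, hdeg, zero_add]⟩, (clOf_eq_iff hK.1 D₀ n hn _ D).2 ⟨z, hz0, rfl⟩⟩

/-- The number of effective divisors in one class. -/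
theorem card_fibre (hK : IsFunctionField k K) (D₀ : Divisor k K) (n : ℕ) (hD₀ : D₀.deg = n)
    (D : (degHom k K).ker) :
    ((Nat.card k : ℤ) - 1) * (Nat.card {E : {E : Divisor k K // 0 ≤ E ∧ E.deg = n} //
      clOf D₀ n hD₀ E = QuotientAddGroup.mk D} : ℤ) = (Nat.card k : ℤ) ^ ell (D.1 + D₀) - 1 := by
  classical
  set Fb := {E : {E : Divisor k K // 0 ≤ E ∧ E.deg = n} // clOf D₀ n hD₀ E = QuotientAddGroup.mk D}
  have hdeg : (D.1 + D₀).deg = n := by
    rw [deg_add, ← degHom_apply, AddMonoidHom.mem_ker.1 D.2, zero_add, hD₀]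
  choose z hz hzE using fun E : Fb => (clOf_eq_iff hK.1 D₀ n hD₀ E.1 D).1 E.2
  haveI := finite_L hK.1 (D.1 + D₀)
  haveI : Finite (L (D.1 + D₀)) := Module.finite_of_finite k
  let T := {v : L (D.1 + D₀) // v ≠ 0}
  let f : Fb × kˣ → T := fun p => ⟨⟨(p.2 : k) • z p.1, Submodule.smul_mem _ _
    ((mem_L_iff_div hK.1 (hz p.1)).2 (hzE p.1 ▸ p.1.1.2.1))⟩,
    fun h => smul_ne_zero p.2.ne_zero (hz p.1) (congrArg Subtype.val h)⟩
  have hdc : ∀ (c : k) (w : K), c ≠ 0 → w ≠ 0 → div k (c • w) = div k w := fun c w hc hw => by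
    rw [Algebra.smul_def, Groth.Agent.FF.div_mul hK.1 ((map_ne_zero _).2 hc) hw, div_const hK.1, zero_add]
  have hf : Function.Bijective f := by
    constructor
    · rintro ⟨E, c⟩ ⟨E', c'⟩ h
      have h1 : (c : k) • z E = (c' : k) • z E' := congrArg (fun v : T => (v.1 : K)) h
      have hE : E = E' := Subtype.ext (Subtype.ext (by
        rw [hzE E, hzE E', ← hdc c (z E) c.ne_zero (hz E), h1, hdc c' (z E') c'.ne_zero (hz E')]))
      subst hE
      exact Prod.ext rfl (Units.ext (smul_left_injective k (hz E) h1))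
    · rintro ⟨⟨v, hv⟩, hv0⟩
      have hv0' : v ≠ 0 := fun h => hv0 (Subtype.ext h)
      let E : Fb := ⟨⟨div k v + (D.1 + D₀), (mem_L_iff_div hK.1 hv0').1 hv,
        by rw [deg_add, deg_div hK.1, hdeg, zero_add]⟩, (clOf_eq_iff hK.1 D₀ n hD₀ _ D).2 ⟨v, hv0', rfl⟩⟩
      have hdiv : div k (v / z E) = 0 := by
        have := hzE E
        change div k v + _ = _ at this
        rw [div_eq_mul_inv, Groth.Agent.FF.div_mul hK.1 hv0' (inv_ne_zero (hz E)), div_inv hK.1, add_right_cancel this,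
          add_neg_cancel]
      have halg : v / z E ∈ L (0 : Divisor k K) :=
        (mem_L_iff_div hK.1 (div_ne_zero hv0' (hz E))).2 (by rw [hdiv, zero_add])
      rw [L_zero hK, Submodule.mem_one] at halg
      obtain ⟨c, hc⟩ := halg
      have hc0 : c ≠ 0 := fun h => div_ne_zero hv0' (hz E) (by rw [← hc, h, map_zero])
      refine ⟨(E, Units.mk0 c hc0), Subtype.ext (Subtype.ext ?_)⟩
      show c • z E = v
      rw [Algebra.smul_def, hc, div_mul_cancel₀ _ (hz E)]
  have h1 := Nat.card_congr (Equiv.ofBijective f hf)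
  rw [Nat.card_prod, Nat.card_units] at h1
  have hT : Nat.card T + 1 = Nat.card k ^ ell (D.1 + D₀) := by
    have e1 : Nat.card (L (D.1 + D₀)) = Nat.card k ^ ell (D.1 + D₀) := Module.natCard_eq_pow_finrank
    rw [← e1, ← Finite.card_option]
    exact Nat.card_congr (Equiv.optionSubtypeNe (0 : L (D.1 + D₀)))
  have hq : 1 ≤ Nat.card k := Nat.card_pos
  have h2 : ((Nat.card T : ℤ)) + 1 = (Nat.card k : ℤ) ^ ell (D.1 + D₀) := by exact_mod_cast hT
  have h3 : (Nat.card Fb : ℤ) * ((Nat.card k : ℤ) - 1) = Nat.card T := by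
    rw [← h1]; push_cast [Nat.cast_sub hq]; ring
  linarith

/-- The number of effective divisors of degree `n`, by classes. -/
theorem effDivCount_eq (hK : IsFunctionField k K) (D₀ : Divisor k K) (n : ℕ) (hD₀ : D₀.deg = n) :
    ((Nat.card k : ℤ) - 1) * (effDivCount k K n : ℤ) =
      ∑ᶠ c : Cl k K, ((Nat.card k : ℤ) ^ ell ((Quotient.out c).1 + D₀) - 1) := by
  classical
  haveI := finite_cl hK
  haveI : Finite {E : Divisor k K // 0 ≤ E ∧ E.deg = n} := (finite_eff hK.1 n).to_subtype
  haveI : Fintype (Cl k K) := Fintype.ofFinite _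
  have e : effDivCount k K n = ∑ c : Cl k K,
      Nat.card {E : {E : Divisor k K // 0 ≤ E ∧ E.deg = n} // clOf D₀ n hD₀ E = c} := by
    rw [effDivCount, ← Nat.card_sigma]
    exact (Nat.card_congr (Equiv.sigmaFiberEquiv (clOf D₀ n hD₀))).symm
  rw [e, Nat.cast_sum, Finset.mul_sum, finsum_eq_sum_of_fintype]
  refine Finset.sum_congr rfl fun c _ => ?_
  conv_lhs => rw [show c = QuotientAddGroup.mk (Quotient.out c) from (QuotientAddGroup.out_eq' c).symm]
  exact card_fibre hK D₀ n hD₀ _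

theorem effDivCount_high (hK : IsFunctionField k K) (n : ℕ) (hn : 2 * genus k K ≤ n + 1)
    (D₀ : Divisor k K) (hD₀ : D₀.deg = n) :
    ((Nat.card k : ℤ) - 1) * (effDivCount k K n : ℤ) =
      (classNum k K : ℤ) * ((Nat.card k : ℤ) ^ (n + 1 - genus k K) - 1) := by
  haveI := finite_cl hK
  haveI : Fintype (Cl k K) := Fintype.ofFinite _
  rw [effDivCount_eq hK D₀ n hD₀, finsum_eq_sum_of_fintype]
  have h : ∀ c : Cl k K, ell ((Quotient.out c).1 + D₀) = n + 1 - genus k K := fun c => by
    have hdeg : ((Quotient.out c).1 + D₀).deg = n := by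
      rw [deg_add, ← degHom_apply, AddMonoidHom.mem_ker.1 (Quotient.out c).2, zero_add, hD₀]
    have := ell_eq_of_deg_ge hK (D := (Quotient.out c).1 + D₀) (by rw [hdeg]; omega)
    rw [hdeg] at this
    omega
  simp only [h, Finset.sum_const, Finset.card_univ, ← Nat.card_eq_fintype_card, nsmul_eq_mul, classNum]

theorem effDivCount_zero_of_no_deg (hK : IsFunctionField k K) (n : ℕ)
    (h : ¬ ∃ D : Divisor k K, D.deg = n) : effDivCount k K n = 0 := by
  haveI : IsEmpty {D : Divisor k K // 0 ≤ D ∧ D.deg = n} := ⟨fun D => h ⟨D.1, D.2.2⟩⟩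
  exact Nat.card_of_isEmpty

end Groth.Agent.Zeta
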