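/-
Constant field extensions over a finite field: Galois structure and decomposition of places.
-/
import Groth.Agent.L26.Zeta.Count
import Groth.Agent.L26.FF.Galois
import Mathlib.FieldTheory.Finite.GaloisField
import Mathlib.FieldTheory.Finite.Extension
import Mathlib.RingTheory.Polynomial.GaussLemma
import Mathlib.FieldTheory.PrimitiveElement
import Mathlib.RingTheory.TensorProduct.Free
import Mathlib.FieldTheory.Galois.Basic

open WithZero IntermediateField
open scoped TensorProduct

open scoped Pointwise

namespace Groth.Agent.Zeta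

open FunFld Groth.Agent.FF

/-- A polynomial irreducible over `k` stays so over a field in which `k` is algebraically closed. -/
lemma irreducible_map {k K : Type*} [Field k] [Field K] [Algebra k K]
    (hcl : ∀ y : K, IsAlgebraic k y → y ∈ Set.range (algebraMap k K)) {f : Polynomial k} (hfm : f.Monic)
    (hfi : Irreducible f) : Irreducible (f.map (algebraMap k K)) := by
  classical
  set fK := f.map (algebraMap k K) with hfK
  have hpos : 0 < fK.natDegree := by rw [hfK, Polynomial.natDegree_map]; exact hfi.natDegree_pos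
  refine ⟨fun h => hpos.ne' (Polynomial.natDegree_eq_zero_of_isUnit h), fun a b hab => ?_⟩
  have ha0 : a ≠ 0 := fun h => (hfm.map (algebraMap k K)).ne_zero (by rw [← hfK, hab, h, zero_mul])
  have hb0 : b ≠ 0 := fun h => (hfm.map (algebraMap k K)).ne_zero (by rw [← hfK, hab, h, mul_zero])
  have hdvd : a * Polynomial.C a.leadingCoeff⁻¹ ∣ fK :=
    ⟨b * Polynomial.C a.leadingCoeff, by
      rw [mul_mul_mul_comm, ← hab, ← Polynomial.C_mul, inv_mul_cancel₀ (Polynomial.leadingCoeff_ne_zero.2 ha0),
        Polynomial.C_1, mul_one]⟩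
  obtain ⟨a0, ha0'⟩ := integralClosure.mem_lifts_of_monic_of_dvd_map K hfm
    (Polynomial.monic_mul_leadingCoeff_inv ha0) hdvd
  have hc : ∀ c : integralClosure k K, ∃ d : k, algebraMap k K d = c :=
    fun c => hcl c.1 c.2.isAlgebraic
  obtain ⟨a1, ha1⟩ : a * Polynomial.C a.leadingCoeff⁻¹ ∈ Polynomial.lifts (algebraMap k K) := by
    rw [Polynomial.lifts_iff_coeff_lifts]
    intro i
    rw [← ha0', Polynomial.coe_mapRingHom, Polynomial.coeff_map]
    exact hc (a0.coeff i)
  rw [Polynomial.coe_mapRingHom] at ha1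
  have hd1 : a1 ∣ f := (Polynomial.map_dvd_map' (algebraMap k K)).1 (ha1.symm ▸ hdvd)
  have hdeg : a1.natDegree = a.natDegree := by
    rw [← Polynomial.natDegree_map (algebraMap k K) (p := a1), ha1, Polynomial.natDegree_mul_C
      (inv_ne_zero (Polynomial.leadingCoeff_ne_zero.2 ha0))]
  obtain ⟨c, hc⟩ := hd1
  rcases hfi.isUnit_or_isUnit hc with h | h
  · left
    have := Polynomial.natDegree_eq_zero_of_isUnit h
    exact Polynomial.isUnit_iff_degree_eq_zero.2 (by
      rw [Polynomial.degree_eq_natDegree ha0]; exact_mod_cast hdeg ▸ this)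
  · right
    have h2 := Polynomial.natDegree_eq_zero_of_isUnit h
    have hc0 : c ≠ 0 := h.ne_zero
    have ha10 : a1 ≠ 0 := fun e => hfm.ne_zero (by rw [hc, e, zero_mul])
    have h3 : f.natDegree = a1.natDegree := by rw [hc, Polynomial.natDegree_mul ha10 hc0, h2, add_zero]
    have h4 : fK.natDegree = a.natDegree + b.natDegree := by rw [hab, Polynomial.natDegree_mul ha0 hb0]
    rw [hfK, Polynomial.natDegree_map] at h4
    exact Polynomial.isUnit_iff_degree_eq_zero.2 (by
      rw [Polynomial.degree_eq_natDegree hb0]; exact_mod_cast (show b.natDegree = 0 by omega))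

lemma ord_const_zero {k K' : Type*} [Field k] [Field K'] [Algebra k K'] (Q : Place k K') {c : K'}
    (hc : IsAlgebraic k c) (hc0 : c ≠ 0) : Q.1 c = 1 :=
  (val_eq_one_iff Q hc0).2 (ord_algebraic hc Q)

/-- Multiplicativity of degrees of fields. -/
lemma finrank_tower {F E A : Type*} [Field F] [Field E] [Field A] [Algebra F E] [Algebra E A] [Algebra F A]
    (h : ∀ c, algebraMap F A c = algebraMap E A (algebraMap F E c)) :
    Module.finrank F A = Module.finrank F E * Module.finrank E A :=
  haveI := IsScalarTower.of_algebraMap_eq h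
  (Module.finrank_mul_finrank F E A).symm

section

variable (k K k' K' : Type*) [Field k] [Field K] [Field k'] [Field K'] [Algebra k K] [Algebra k k']
  [Algebra K K'] [Algebra k' K'] [Algebra k K'] [IsScalarTower k K K'] [IsScalarTower k k' K']

/-- `K'` is `K ⊗ k'`. -/
structure CExt : Prop where
  fin : FiniteDimensional k k'
  gen : Algebra.adjoin K (Set.range (algebraMap k' K')) = ⊤
  rank : Module.finrank K K' = Module.finrank k k'

/-- The map `K ⊗ k' → K'`. -/
noncomputable def psi : K ⊗[k] k' →ₐ[K] K' :=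
  Algebra.TensorProduct.lift (Algebra.ofId K K') (IsScalarTower.toAlgHom k k' K') fun _ _ => Commute.all _ _

variable {k K k' K'} (C : CExt k K k' K')
include C

lemma CExt.rpos : 0 < Module.finrank k k' := haveI := C.fin; Module.finrank_pos

lemma CExt.finK : FiniteDimensional K K' := Module.finite_of_finrank_pos (C.rank ▸ C.rpos)

lemma CExt.psi_bij : Function.Bijective (psi k K k' K') := by
  haveI := C.fin
  haveI := C.finK
  have hs : Function.Surjective (psi k K k' K') := by
    rw [← AlgHom.range_eq_top, eq_top_iff, ← C.gen, Algebra.adjoin_le_iff]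
    rintro _ ⟨c, rfl⟩
    exact ⟨1 ⊗ₜ c, by simp [psi]⟩
  exact ⟨(LinearMap.injective_iff_surjective_of_finrank_eq_finrank
    (by rw [Module.finrank_baseChange, C.rank]) (f := (psi k K k' K').toLinearMap)).2 hs, hs⟩

/-- `K ⊗ k' ≅ K'`. -/
noncomputable def CExt.psiE : K ⊗[k] k' ≃ₐ[K] K' := AlgEquiv.ofBijective (psi k K k' K') C.psi_bij

/-- The automorphism of `K'` extending one of `k'`. -/
noncomputable def CExt.aut (τ : k' ≃ₐ[k] k') : K' ≃ₐ[K] K' :=
  C.psiE.symm.trans ((Algebra.TensorProduct.congr (AlgEquiv.refl : K ≃ₐ[K] K) τ).trans C.psiE)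

lemma CExt.aut_const (τ : k' ≃ₐ[k] k') (c : k') :
    C.aut τ (algebraMap k' K' c) = algebraMap k' K' (τ c) := by
  have e : ∀ d, C.psiE (1 ⊗ₜ[k] d) = algebraMap k' K' d := fun d => by
    simp [CExt.psiE, psi]
  rw [← e c, CExt.aut, AlgEquiv.trans_apply, AlgEquiv.symm_apply_apply, AlgEquiv.trans_apply,
    Algebra.TensorProduct.congr_apply, Algebra.TensorProduct.map_tmul]
  exact e (τ c)

lemma CExt.galois_and_surj [Finite k] :
    IsGalois K K' ∧ Function.Bijective C.aut := by
  haveI := C.fin
  haveI := C.finK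
  haveI : Finite k' := Module.finite_of_finite k
  have hinj : Function.Injective C.aut := fun a b h => AlgEquiv.ext fun c =>
    (algebraMap k' K').injective (by rw [← C.aut_const, ← C.aut_const, h])
  have h1 : Nat.card (k' ≃ₐ[k] k') ≤ Nat.card (K' ≃ₐ[K] K') := Nat.card_le_card_of_injective _ hinj
  have h2 : Nat.card (k' ≃ₐ[k] k') = Module.finrank k k' := IsGalois.card_aut_eq_finrank k k'
  have h3 : Nat.card (K' ≃ₐ[K] K') ≤ Module.finrank K K' := by
    rw [Nat.card_eq_fintype_card]; exact AlgEquiv.card_le
  have h4 : Nat.card (K' ≃ₐ[K] K') = Module.finrank K K' := by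
    have := C.rank
    omega
  refine ⟨IsGalois.of_card_aut_eq_finrank K K' h4, ?_⟩
  rw [Nat.bijective_iff_injective_and_card]
  exact ⟨hinj, by rw [h2, h4, C.rank]⟩

theorem CExt.isFunctionField [Finite k] (hK : IsFunctionField k K) : IsFunctionField k' K' := by
  haveI := C.fin
  haveI := C.finK
  constructor
  · obtain ⟨x, hx, hfin⟩ := isFF_ext (K' := K') hK.1
    refine ⟨x, hx.extendScalars k', ?_⟩
    let F' : IntermediateField k' K' := IntermediateField.adjoin k' ({x} : Set K')
    have hle : IntermediateField.adjoin k ({x} : Set K') ≤ F'.restrictScalars k :=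
      adjoin_le_iff.2 (Set.singleton_subset_iff.2 (mem_adjoin_simple_self k' x))
    haveI : FiniteDimensional (IntermediateField.adjoin k ({x} : Set K')) K' := hfin
    exact FiniteDimensional.right (IntermediateField.adjoin k ({x} : Set K'))
      (IntermediateField.extendScalars hle) K'
  · intro y hy
    haveI : Algebra.IsAlgebraic k k' := Algebra.IsAlgebraic.of_finite k k'
    have hyk : IsAlgebraic k y := hy.restrictScalars k
    let E : IntermediateField k K' := IntermediateField.adjoin k (Set.range (algebraMap k' K') ∪ {y})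
    haveI : Finite k' := Module.finite_of_finite k
    haveI : FiniteDimensional k E := IntermediateField.finiteDimensional_adjoin fun z hz => by
      rcases hz with ⟨c, rfl⟩ | rfl
      · exact (Algebra.IsIntegral.isIntegral c).algebraMap
      · exact hyk.isIntegral
    haveI : Finite E := Module.finite_of_finite k
    obtain ⟨γ, hγ⟩ := Field.exists_primitive_element k E
    have hint : IsIntegral k (γ : K') := (Algebra.IsIntegral.isIntegral γ).map E.val
    have hirr := irreducible_map hK.2 (minpoly.monic hint) (minpoly.irreducible hint)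
    have hmin : (minpoly k (γ : K')).map (algebraMap k K) = minpoly K (γ : K') :=
      minpoly.eq_of_irreducible_of_monic hirr (by rw [Polynomial.aeval_map_algebraMap, minpoly.aeval])
        ((minpoly.monic hint).map _)
    have h1 : Module.finrank k E ≤ Module.finrank K K' := by
      have e := IntermediateField.adjoin.finrank (Algebra.IsIntegral.isIntegral (R := k) γ)
      rw [hγ, IntermediateField.finrank_top', ← minpoly.algebraMap_eq (algebraMap E K').injective γ] at e
      rw [e, ← Polynomial.natDegree_map (algebraMap k K), show algebraMap E K' γ = (γ : K') from rfl, hmin]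
      exact minpoly.natDegree_le _
    let f : k' →ₐ[k] E := (IsScalarTower.toAlgHom k k' K').codRestrict E.toSubalgebra
      fun c => subset_adjoin k _ (Or.inl ⟨c, rfl⟩)
    have hf : Function.Surjective f := by
      refine (LinearMap.injective_iff_surjective_of_finrank_eq_finrank (f := f.toLinearMap) ?_).1
        f.toRingHom.injective
      exact le_antisymm (LinearMap.finrank_le_finrank_of_injective (f := f.toLinearMap) f.toRingHom.injective)
          (C.rank ▸ h1)
    obtain ⟨c, hc⟩ := hf ⟨y, subset_adjoin k _ (Or.inr rfl)⟩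
    exact ⟨c, congrArg Subtype.val hc⟩

/-- Places over `k'` are the places over `k`. -/
def CExt.placeEquiv : Place k' K' ≃ Place k K' where
  toFun Q := ⟨Q.1, fun c => by
    rw [IsScalarTower.algebraMap_apply k k' K']; exact Q.2.1 _, Q.2.2⟩
  invFun Q := ⟨Q.1, fun c => by
    haveI := C.fin
    rcases eq_or_ne c 0 with rfl | hc
    · simp
    · refine (ord_const_zero Q ?_ ((map_ne_zero _).2 hc)).le
      exact (Algebra.IsAlgebraic.isAlgebraic (R := k) c).algebraMap, Q.2.2⟩
  left_inv _ := rfl
  right_inv _ := rfl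

lemma CExt.deg_placeEquiv (Q : Place k' K') :
    (C.placeEquiv Q).deg = Module.finrank k k' * Q.deg := by
  letI : Algebra k (IsLocalRing.ResidueField Q.O) := Place.algRes (C.placeEquiv Q)
  refine finrank_tower (A := IsLocalRing.ResidueField Q.O) fun c => ?_
  show IsLocalRing.residue Q.O _ = IsLocalRing.residue Q.O _
  congr 1
  apply Subtype.ext
  exact IsScalarTower.algebraMap_apply k k' K' c

/-- Decomposition of a place in a constant extension. -/
theorem CExt.split [Finite k] (hK : IsFunctionField k K) (P : Place k K) :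
    Nat.card {Q : Place k K' // IsOver Q P} = Nat.gcd P.deg (Module.finrank k k') ∧
    ∀ Q : Place k K', IsOver Q P →
      IsOverWith Q P 1 ∧ Q.deg * Nat.gcd P.deg (Module.finrank k k') = Module.finrank k k' * P.deg := by
  classical
  haveI := C.fin
  haveI := C.finK
  haveI : Finite k' := Module.finite_of_finite k
  obtain ⟨hgal, hbij⟩ := C.galois_and_surj
  set r := Module.finrank k k' with hr
  set g := Nat.gcd P.deg r with hg
  have hd : 1 ≤ P.deg := one_le_deg hK.1 P
  have hgpos : 0 < g := Nat.gcd_pos_of_pos_left _ hd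
  -- one place over `P`
  suffices key : ∀ Q : Place k K', IsOver Q P →
      (IsOverWith Q P 1 ∧ Q.deg * g = r * P.deg) ∧ Nat.card {Q : Place k K' // IsOver Q P} = g by
    obtain ⟨hfin, hsum⟩ := finite_over_and_sum (K' := K') hK P
    obtain ⟨Q, hQ⟩ : ∃ Q : Place k K', IsOver Q P := by
      by_contra hne
      push Not at hne
      have := hsum ∅ (fun Q => iff_of_false (Finset.notMem_empty Q) (hne Q))
      rw [Finset.sum_empty, C.rank] at this
      exact (Nat.mul_pos C.rpos (show 0 < P.deg by omega)).ne this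
    exact ⟨(key Q hQ).2, fun Q hQ => (key Q hQ).1⟩
  rintro Q ⟨e, he⟩
  have hfinQ := finite_residueField (isFF_ext (K' := K') hK.1) Q
  have hfinP := finite_residueField hK.1 P
  haveI : Module.Finite k (IsLocalRing.ResidueField P.O) := hfinP
  haveI : Module.Finite k (IsLocalRing.ResidueField Q.O) := hfinQ
  haveI : Finite (IsLocalRing.ResidueField P.O) := Module.finite_of_finite k
  haveI : Finite (IsLocalRing.ResidueField Q.O) := Module.finite_of_finite k
  -- residue maps
  let inc : P.O →ₐ[k] Q.O :=
    { toFun := fun a => ⟨algebraMap K K' a.1, (he.le_one_iff a.1).2 a.2⟩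
      map_one' := Subtype.ext (map_one _)
      map_mul' := fun a b => Subtype.ext (map_mul (algebraMap K K') _ _)
      map_zero' := Subtype.ext (map_zero _)
      map_add' := fun a b => Subtype.ext (map_add (algebraMap K K') _ _)
      commutes' := fun c => Subtype.ext (IsScalarTower.algebraMap_apply k K K' c).symm }
  let h : P.O →ₐ[k] IsLocalRing.ResidueField Q.O := (resMap Q).comp inc
  have hker : ∀ a : P.O, a ∈ IsLocalRing.maximalIdeal P.O → h a = 0 := fun a ha => by
    refine (residue_eq_zero Q _).2 ((he.lt_one_iff a.1).2 ((residue_eq_zero P a).1 ?_))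
    exact (IsLocalRing.residue_eq_zero_iff a).2 ha
  let ρ : IsLocalRing.ResidueField P.O →ₐ[k] IsLocalRing.ResidueField Q.O :=
    { Ideal.Quotient.lift (IsLocalRing.maximalIdeal P.O) h.toRingHom hker with
      commutes' := fun c => h.commutes c }
  -- the degree is a multiple of `lcm`
  have hdvd1 : P.deg ∣ Q.deg := by
    letI := ρ.toRingHom.toAlgebra
    exact ⟨_, finrank_tower (F := k) (E := IsLocalRing.ResidueField P.O) (A := IsLocalRing.ResidueField Q.O)
      fun c => (ρ.commutes c).symm⟩
  have hdvd2 : r ∣ Q.deg := ⟨(C.placeEquiv.symm Q).deg, by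
    rw [← C.deg_placeEquiv, Equiv.apply_symm_apply]⟩
  have hlcm : Nat.lcm P.deg r ∣ Q.deg := Nat.lcm_dvd hdvd1 hdvd2
  -- the decomposition group is small
  obtain ⟨p, hp⟩ := CharP.exists k
  haveI := Fact.mk (CharP.char_is_prime k p)
  haveI : NeZero g := ⟨hgpos.ne'⟩
  let Fg := FiniteField.Extension k p g
  have hFg : Module.finrank k Fg = g := FiniteField.finrank_extension k p g
  obtain ⟨i⟩ : Nonempty (Fg →ₐ[k] k') :=
    FiniteField.nonempty_algHom_of_finrank_dvd (by rw [hFg]; exact Nat.gcd_dvd_right _ _)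
  obtain ⟨j⟩ : Nonempty (Fg →ₐ[k] IsLocalRing.ResidueField P.O) :=
    FiniteField.nonempty_algHom_of_finrank_dvd (by rw [hFg]; exact Nat.gcd_dvd_left _ _)
  let c₀ : k' →ₐ[k] Q.O :=
    { toFun := fun c => ⟨algebraMap k' K' c, (C.placeEquiv.symm Q).2.1 c⟩
      map_one' := Subtype.ext (map_one _)
      map_mul' := fun a b => Subtype.ext (map_mul (algebraMap k' K') _ _)
      map_zero' := Subtype.ext (map_zero _)
      map_add' := fun a b => Subtype.ext (map_add (algebraMap k' K') _ _)
      commutes' := fun c => Subtype.ext (IsScalarTower.algebraMap_apply k k' K' c).symm }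
  let ψ1 : Fg →ₐ[k] IsLocalRing.ResidueField Q.O := ((resMap Q).comp c₀).comp i
  let ψ2 : Fg →ₐ[k] IsLocalRing.ResidueField Q.O := ρ.comp j
  have himg : ∀ b : Fg, ∃ b' : Fg, ψ1 b = ψ2 b' := by
    haveI : Fintype Fg := Fintype.ofFinite _
    set q := Fintype.card Fg
    let f : Polynomial (IsLocalRing.ResidueField Q.O) := Polynomial.X ^ q - Polynomial.X
    have hf0 : f ≠ 0 := FiniteField.X_pow_card_sub_X_ne_zero _ Fintype.one_lt_card
    have hroot : ∀ (ψ : Fg →ₐ[k] IsLocalRing.ResidueField Q.O) (b : Fg), ψ b ∈ f.roots.toFinset := fun ψ b => by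
      rw [Multiset.mem_toFinset, Polynomial.mem_roots hf0]
      simp [f, Polynomial.IsRoot, ← map_pow, FiniteField.pow_card, q]
    have heq : Finset.univ.image ψ2 = f.roots.toFinset := by
      refine Finset.eq_of_subset_of_card_le (Finset.image_subset_iff.2 fun b _ => hroot ψ2 b) ?_
      rw [Finset.card_image_of_injective _ (show Function.Injective ψ2 from ψ2.toRingHom.injective), Finset.card_univ]
      refine (Multiset.toFinset_card_le _).trans ((Polynomial.card_roots' f).trans ?_)
      rw [FiniteField.X_pow_card_sub_X_natDegree_eq _ Fintype.one_lt_card]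
    intro b
    obtain ⟨b', -, hb'⟩ := Finset.mem_image.1 (heq ▸ hroot ψ1 b : ψ1 b ∈ Finset.univ.image ψ2)
    exact ⟨b', hb'.symm⟩
  have hsub : ∀ σ ∈ Q.O.decompositionSubgroup K, ∃ τ ∈ i.fieldRange.fixingSubgroup, C.aut τ = σ := by
    intro σ hσ
    obtain ⟨τ, rfl⟩ := hbij.2 σ
    refine ⟨τ, (IntermediateField.mem_fixingSubgroup_iff _ _).2 ?_, rfl⟩
    rintro _ ⟨b, rfl⟩
    obtain ⟨b', hb'⟩ := himg b
    obtain ⟨a, ha⟩ := Ideal.Quotient.mk_surjective (j b')
    have hz : Q.1 (algebraMap k' K' (i b) - algebraMap K K' a.1) < 1 := by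
      have h0 : resMap Q (c₀ (i b) - inc a) = 0 := by
        rw [map_sub, sub_eq_zero]
        refine hb'.trans ?_
        show ρ (j b') = _
        rw [← ha]
        rfl
      exact (residue_eq_zero Q _).1 h0
    have hfixQ : galPlace (C.aut τ)⁻¹ Q = Q := place_ext_O (by
      rw [galPlace_O]
      exact MulAction.mem_stabilizer_iff.1 (inv_mem hσ))
    have hz2 : Q.1 (C.aut τ (algebraMap k' K' (i b) - algebraMap K K' a.1)) < 1 := by
      have h1 := congrArg (fun R : Place k K' => R.1 (algebraMap k' K' (i b) - algebraMap K K' a.1)) hfixQ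
      simp only [galPlace_apply, AlgEquiv.aut_inv, AlgEquiv.symm_symm] at h1
      rw [h1]; exact hz
    rw [map_sub, AlgEquiv.commutes, C.aut_const] at hz2
    have h3 := Q.1.map_sub_lt hz2 hz
    rw [sub_sub_sub_cancel_right, ← map_sub] at h3
    by_contra hne
    refine h3.ne (ord_const_zero Q ?_ ((map_ne_zero _).2 (sub_ne_zero.2 hne)))
    exact (Algebra.IsAlgebraic.isAlgebraic (R := k) _).algebraMap
  have hD : Nat.card (Q.O.decompositionSubgroup K) * g ≤ r := by
    choose τ hτ hτσ using hsub
    have h1 : Nat.card (Q.O.decompositionSubgroup K) ≤ Nat.card i.fieldRange.fixingSubgroup :=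
      Nat.card_le_card_of_injective (fun σ => ⟨τ σ.1 σ.2, hτ σ.1 σ.2⟩) fun σ σ' hσ => by
        have := congrArg (fun t : i.fieldRange.fixingSubgroup => C.aut t.1) hσ
        simp only [hτσ] at this
        exact Subtype.ext this
    rw [IsGalois.card_fixingSubgroup_eq_finrank] at h1
    have h2 := Module.finrank_mul_finrank k i.fieldRange k'
    have h3 : Module.finrank k i.fieldRange = g := by
      exact (AlgEquiv.ofInjectiveField i).toLinearEquiv.finrank_eq.symm.trans hFg
    rw [h3] at h2
    calc _ ≤ Module.finrank i.fieldRange k' * g := Nat.mul_le_mul_right g h1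
      _ = r := by rw [mul_comm, h2]
  have hA := card_decomposition_mul_deg hK he
  have hB := card_places_mul_card_decomposition hK.1 (Q := Q) ⟨e, he⟩
  rw [C.rank, ← hr] at hB
  set Dc := Nat.card (Q.O.decompositionSubgroup K)
  set N := Nat.card {Q' : Place k K' // IsOver Q' P}
  have hQpos : 1 ≤ Q.deg := one_le_deg (isFF_ext (K' := K') hK.1) Q
  have hl : Nat.lcm P.deg r ≤ Q.deg := Nat.le_of_dvd hQpos hlcm
  have hlg : g * Nat.lcm P.deg r = P.deg * r := Nat.gcd_mul_lcm _ _
  have hepos := he.pos
  -- `r * d ≤ g * deg Q`, `Dc * g ≤ r`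
  have h5 : P.deg * r ≤ g * Q.deg := hlg ▸ Nat.mul_le_mul_left g hl
  have h6 : g * (e * Q.deg) ≤ P.deg * r := by
    rw [← hA]; calc g * (Dc * P.deg) = (Dc * g) * P.deg := by ring
      _ ≤ r * P.deg := Nat.mul_le_mul_right _ hD
      _ = _ := mul_comm _ _
  have he1 : e = 1 := by
    by_contra hne
    have : 2 * (g * Q.deg) ≤ P.deg * r := le_trans (by
      have : 2 ≤ e := by omega
      calc 2 * (g * Q.deg) ≤ e * (g * Q.deg) := Nat.mul_le_mul_right _ this
        _ = g * (e * Q.deg) := by ring) h6
    have : 0 < g * Q.deg := Nat.mul_pos hgpos hQpos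
    omega
  subst he1
  rw [one_mul] at hA h6
  have hQd : Q.deg * g = r * P.deg := by
    rw [mul_comm, mul_comm r]; omega
  refine ⟨⟨he, hQd⟩, ?_⟩
  have hDr : Dc * g = r := by
    refine Nat.eq_of_mul_eq_mul_right (show 0 < P.deg by omega) ?_
    rw [mul_comm Dc g, mul_assoc, hA, mul_comm g, hQd]
  refine Nat.eq_of_mul_eq_mul_right (show 0 < Dc from Nat.pos_of_ne_zero fun h => ?_) (hB.trans ?_)
  · rw [h, zero_mul] at hDr; exact C.rpos.ne' hDr.symm
  · rw [mul_comm g]; exact hDr.symm

end

end Groth.Agent.Zeta
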