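/-
F. K. Schmidt: over a finite constant field there is a divisor of degree one.
-/
import Groth.Agent.L26.Zeta.ConstExt
import Mathlib.RingTheory.AdjoinRoot
import Mathlib.RingTheory.Int.Basic
import Mathlib.GroupTheory.SpecificGroups.Cyclic
import Mathlib.GroupTheory.Archimedean
import Mathlib.Algebra.Order.BigOperators.Group.Finset

open WithZero IntermediateField

universe u v

namespace Groth.Agent.Zeta

open FunFld Groth.Agent.FF

lemma pow_sub_one_ge {q N : ℕ} (hq : 1 ≤ q) (hN : 1 ≤ N) :
    ((q : ℤ) - 1) * (q : ℤ) ^ (N - 1) ≤ (q : ℤ) ^ N - 1 := by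
  obtain ⟨M, rfl⟩ : ∃ M, N = M + 1 := ⟨N - 1, by omega⟩
  rw [Nat.add_sub_cancel, pow_succ]
  have : (1 : ℤ) ≤ (q : ℤ) ^ M := one_le_pow₀ (by exact_mod_cast hq)
  nlinarith

variable {k : Type u} {K : Type v} [Field k] [Field K] [Algebra k K] [Finite k]

/-- A constant extension of each degree. -/
lemma exists_cext (hK : IsFunctionField k K) (δ : ℕ) [NeZero δ] :
    ∃ (k' : Type) (_ : Field k') (_ : Algebra k k') (K' : Type v) (_ : Field K') (_ : Algebra K K')
      (_ : Algebra k' K') (_ : Algebra k K') (_ : IsScalarTower k K K') (_ : IsScalarTower k k' K'),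
      CExt k K k' K' ∧ Module.finrank k k' = δ := by
  classical
  obtain ⟨p, hp⟩ := CharP.exists k
  haveI := Fact.mk (CharP.char_is_prime k p)
  let k' := FiniteField.Extension k p δ
  obtain ⟨γ, hγ⟩ := Field.exists_primitive_element k k'
  have hint : IsIntegral k γ := Algebra.IsIntegral.isIntegral γ
  set fK := (minpoly k γ).map (algebraMap k K) with hfK
  have hirr : Irreducible fK := irreducible_map hK.2 (minpoly.monic hint) (minpoly.irreducible hint)
  haveI := Fact.mk hirr
  let pb : PowerBasis k k' := (IntermediateField.adjoin.powerBasis hint).map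
    ((IntermediateField.equivOfEq hγ).trans IntermediateField.topEquiv)
  have hgen : pb.gen = γ := rfl
  have hroot : Polynomial.aeval (AdjoinRoot.root fK) (minpoly k γ) = 0 := by
    rw [← Polynomial.aeval_map_algebraMap K]
    exact AdjoinRoot.aeval_eq fK ▸ AdjoinRoot.mk_self
  let g : k' →ₐ[k] AdjoinRoot fK := pb.lift (AdjoinRoot.root fK) (by rw [hgen]; exact hroot)
  letI : Algebra k' (AdjoinRoot fK) := g.toRingHom.toAlgebra
  haveI : IsScalarTower k k' (AdjoinRoot fK) := IsScalarTower.of_algebraMap_eq fun c => (g.commutes c).symm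
  refine ⟨k', inferInstance, inferInstance, AdjoinRoot fK, inferInstance, inferInstance, inferInstance,
    inferInstance, inferInstance, inferInstance, ⟨inferInstance, ?_, ?_⟩, FiniteField.finrank_extension k p δ⟩
  · rw [eq_top_iff, ← AdjoinRoot.adjoinRoot_eq_top (f := fK)]
    refine Algebra.adjoin_mono (Set.singleton_subset_iff.2 ⟨γ, ?_⟩)
    show g γ = _
    rw [← hgen]
    exact pb.lift_gen _ _
  · rw [(AdjoinRoot.powerBasis hirr.ne_zero).finrank, AdjoinRoot.powerBasis_dim, hfK,
      Polynomial.natDegree_map, pb.finrank]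
    rfl

/-- The degree map is onto. -/
theorem exists_deg_one (hK : IsFunctionField k K) : ∃ D : Divisor k K, D.deg = 1 := by
  classical
  obtain ⟨δ, hδ⟩ : ∃ δ : ℤ, (degHom k K).range = AddSubgroup.zmultiples δ := by
    obtain ⟨a, ha⟩ := Int.subgroup_cyclic (degHom k K).range
    exact ⟨a, by rw [ha, AddSubgroup.zmultiples_eq_closure]⟩
  have hdvd : ∀ D : Divisor k K, δ ∣ D.deg := fun D => by
    have : degHom k K D ∈ AddSubgroup.zmultiples δ := hδ ▸ ⟨D, rfl⟩
    obtain ⟨m, hm⟩ := AddSubgroup.mem_zmultiples_iff.1 this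
    exact ⟨m, by rw [← degHom_apply, ← hm, smul_eq_mul, mul_comm]⟩
  obtain ⟨Dδ, hDδ⟩ : δ ∈ (degHom k K).range := hδ ▸ AddSubgroup.mem_zmultiples δ
  rw [degHom_apply] at hDδ
  -- `δ` is nonzero
  obtain ⟨P₀⟩ := nonempty_place hK
  have hδ0 : δ ≠ 0 := fun h => by
    have h1 := hdvd (Finsupp.single P₀ 1)
    rw [h, zero_dvd_iff, deg_single, one_mul] at h1
    have := one_le_deg hK.1 P₀
    omega
  obtain ⟨d, hd1, Dd, hDd, hdP⟩ : ∃ d : ℕ, 1 ≤ d ∧ ∃ Dd : Divisor k K, Dd.deg = d ∧
      ∀ D : Divisor k K, (d : ℤ) ∣ D.deg := by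
    refine ⟨δ.natAbs, by omega, ?_⟩
    rcases Int.natAbs_eq δ with h | h
    · exact ⟨Dδ, hDδ.trans h, fun D => h ▸ hdvd D⟩
    · refine ⟨-Dδ, by rw [deg_neg, hDδ]; omega, fun D => ?_⟩
      rw [Int.natAbs_dvd]; exact hdvd D
  by_cases hd : d = 1
  · exact ⟨Dd, by rw [hDd, hd, Nat.cast_one]⟩
  exfalso
  haveI : NeZero d := ⟨by omega⟩
  obtain ⟨k', _, _, K', _, _, _, _, _, _, C, hr⟩ := exists_cext hK d
  haveI := C.fin
  haveI : Finite k' := Module.finite_of_finite k
  have hK' := C.isFunctionField hK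
  have hPd : ∀ P : Place k K, d ∣ P.deg := fun P => by
    have := hdP (Finsupp.single P 1)
    rw [deg_single, one_mul] at this
    exact_mod_cast this
  -- two places over each place
  have htwo : ∀ P : Place k K, ∃ Q : Bool → Place k' K', Function.Injective Q ∧
      ∀ b, IsOver (C.placeEquiv (Q b)) P ∧ (Q b).deg * d = P.deg := by
    intro P
    obtain ⟨hN, hall⟩ := C.split hK P
    rw [hr, Nat.gcd_eq_right (hPd P)] at hN
    haveI : Finite {Q : Place k K' // IsOver Q P} := Nat.finite_of_card_ne_zero (by omega)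
    obtain ⟨a, b, hab⟩ : ∃ a b : {Q : Place k K' // IsOver Q P}, a ≠ b := by
      haveI : Nontrivial {Q : Place k K' // IsOver Q P} := Finite.one_lt_card_iff_nontrivial.1 (by omega)
      exact exists_pair_ne _
    have hdeg : ∀ c : {Q : Place k K' // IsOver Q P}, (C.placeEquiv.symm c.1).deg * d = P.deg := fun c => by
      have h1 := (hall c.1 c.2).2
      have h2 := C.deg_placeEquiv (C.placeEquiv.symm c.1)
      rw [Equiv.apply_symm_apply] at h2
      rw [hr, Nat.gcd_eq_right (hPd P), h2, hr, mul_assoc] at h1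
      exact Nat.eq_of_mul_eq_mul_left (by omega) h1
    refine ⟨fun x => C.placeEquiv.symm (if x then a.1 else b.1), fun x y h => ?_, fun x => ?_⟩
    · have h' := C.placeEquiv.symm.injective h
      cases x <;> cases y <;> simp only [↓reduceIte, Bool.false_eq_true] at h' ⊢ <;>
        first
          | exact absurd (Subtype.ext h').symm hab
          | exact absurd (Subtype.ext h') hab
    · show IsOver (C.placeEquiv (C.placeEquiv.symm _)) P ∧ _
      rw [Equiv.apply_symm_apply]
      cases x <;> simp only [↓reduceIte, Bool.false_eq_true]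
      · exact ⟨b.2, hdeg b⟩
      · exact ⟨a.2, hdeg a⟩
  choose Q hQinj hQ using htwo
  let ι : Place k K × Bool → Place k' K' := fun x => Q x.1 x.2
  have hι : Function.Injective ι := by
    rintro ⟨P, a⟩ ⟨P', b⟩ h
    obtain ⟨e, he⟩ := (hQ P a).1
    obtain ⟨e', he'⟩ := (hQ P' b).1
    have hPP : P = P' := (he.unique (show IsOverWith (C.placeEquiv (Q P a)) P' e' from
      (show Q P' b = Q P a from h.symm) ▸ he')).1
    subst hPP
    exact Prod.ext rfl (hQinj P h)
  let up : Divisor k K → Divisor k K → Divisor k' K' := fun A B =>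
    Finsupp.mapDomain ι (Finsupp.mapDomain (fun P => (P, false)) A + Finsupp.mapDomain (fun P => (P, true)) B)
  have hupdeg : ∀ A B, (d : ℤ) * (up A B).deg = A.deg + B.deg := by
    intro A B
    have hlin : ∀ (b : Bool) (E : Divisor k K),
        (d : ℤ) * Divisor.deg (Finsupp.mapDomain ι (Finsupp.mapDomain (fun P => (P, b)) E) : Divisor k' K') = E.deg := by
      intro b E
      induction E using Finsupp.induction_linear with
      | zero => simp [deg_zero]
      | add E E' hE hE' => rw [Finsupp.mapDomain_add, Finsupp.mapDomain_add, deg_add, deg_add, mul_add, hE, hE']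
      | single P m =>
        rw [Finsupp.mapDomain_single, Finsupp.mapDomain_single, deg_single, deg_single,
          ← (hQ P b).2]
        push_cast
        ring
    simp only [up]
    rw [Finsupp.mapDomain_add, deg_add, mul_add, hlin, hlin]
  have hupval : ∀ A B P, up A B (ι (P, false)) = A P ∧ up A B (ι (P, true)) = B P := by
    intro A B P
    have hinjb : ∀ b : Bool, Function.Injective fun P : Place k K => (P, b) := fun b x y h => congrArg Prod.fst h
    simp only [up, Finsupp.mapDomain_apply hι, Finsupp.add_apply]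
    constructor
    · rw [Finsupp.mapDomain_apply (hinjb false), Finsupp.mapDomain_notin_range _ _ (by simp), add_zero]
    · rw [Finsupp.mapDomain_apply (hinjb true), Finsupp.mapDomain_notin_range _ _ (by simp), zero_add]
  have hupnn : ∀ A B : Divisor k K, 0 ≤ A → 0 ≤ B → 0 ≤ up A B := by
    intro A B hA hB R
    by_cases hR : R ∈ Set.range ι
    · obtain ⟨⟨P, b⟩, rfl⟩ := hR
      cases b
      · rw [(hupval A B P).1]; exact hA P
      · rw [(hupval A B P).2]; exact hB P
    · simp only [up, Finsupp.mapDomain_notin_range _ _ hR, Finsupp.zero_apply, le_refl]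
  -- the counting inequality
  set q := Nat.card k with hq
  have hq2 : 2 ≤ q := Finite.one_lt_card
  set g := genus k K
  set g' := genus k' K'
  haveI := finite_cl hK
  have hh : 1 ≤ classNum k K := Nat.card_pos
  set a := effDivCount k K
  have hlow : ∀ i : ℕ, 2 * g ≤ d * i → q ^ (d * i - g) ≤ a (d * i) := by
    intro i hi
    have h1 := effDivCount_high hK (d * i) (by omega) (i • Dd) (by rw [deg_nsmul, hDd]; push_cast; ring)
    have h2 := pow_sub_one_ge (q := q) (N := d * i + 1 - g) (by omega) (by omega)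
    rw [show d * i + 1 - g - 1 = d * i - g by omega] at h2
    have hq1 : (0 : ℤ) < (q : ℤ) - 1 := by omega
    have hh' : (1 : ℤ) ≤ classNum k K := by exact_mod_cast hh
    have h0 : (0 : ℤ) ≤ (q : ℤ) ^ (d * i + 1 - g) - 1 := by
      have : (1 : ℤ) ≤ (q : ℤ) ^ (d * i + 1 - g) := one_le_pow₀ (by omega)
      omega
    have h3 : ((q : ℤ) - 1) * (q : ℤ) ^ (d * i - g) ≤ ((q : ℤ) - 1) * (a (d * i) : ℤ) := by
      rw [h1]
      exact h2.trans (le_mul_of_one_le_left h0 hh')
    have := le_of_mul_le_mul_left h3 hq1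
    exact_mod_cast this
  haveI := finite_cl hK'
  set h' := classNum k' K'
  have hq' : Nat.card k' = q ^ d := by rw [Module.natCard_eq_pow_finrank (K := k), hr]
  have hup : ∀ m : ℕ, 2 * g' ≤ m → effDivCount k' K' m ≤ h' * q ^ (d * (m + 1)) := by
    intro m hm
    by_cases hex : ∃ D : Divisor k' K', D.deg = m
    · obtain ⟨D, hD⟩ := hex
      have h1 := effDivCount_high hK' m (by omega) D hD
      rw [hq'] at h1
      have hQ2 : (2 : ℤ) ≤ ((q ^ d : ℕ) : ℤ) := by
        exact_mod_cast le_trans hq2 (Nat.le_self_pow (by omega) q)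
      have hpow : ((q ^ d : ℕ) : ℤ) ^ (m + 1 - g') ≤ ((q ^ d : ℕ) : ℤ) ^ (m + 1) :=
        pow_le_pow_right₀ (by omega) (by omega)
      have h3 : (effDivCount k' K' m : ℤ) ≤ (h' : ℤ) * ((q ^ d : ℕ) : ℤ) ^ (m + 1) := by
        calc (effDivCount k' K' m : ℤ) ≤ (((q ^ d : ℕ) : ℤ) - 1) * effDivCount k' K' m :=
              le_mul_of_one_le_left (Int.natCast_nonneg _) (by omega)
          _ = _ := h1
          _ ≤ _ := mul_le_mul_of_nonneg_left (by linarith) (Int.natCast_nonneg _)
      rw [pow_mul]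
      exact_mod_cast h3
    · rw [effDivCount_zero_of_no_deg hK' m hex]; exact Nat.zero_le _
  have hpairs : ∀ m : ℕ, ∑ i ∈ Finset.range (m + 1), a (d * i) * a (d * (m - i)) ≤ effDivCount k' K' m := by
    intro m
    haveI : Finite {D : Divisor k' K' // 0 ≤ D ∧ D.deg = m} := (finite_eff hK'.1 m).to_subtype
    haveI : ∀ n : ℕ, Finite {D : Divisor k K // 0 ≤ D ∧ D.deg = n} := fun n => (finite_eff hK.1 n).to_subtype
    let T := Σ i : Finset.range (m + 1), {D : Divisor k K // 0 ≤ D ∧ D.deg = (d * i : ℕ)} ×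
      {D : Divisor k K // 0 ≤ D ∧ D.deg = (d * (m - i) : ℕ)}
    have hT : Nat.card T = ∑ i ∈ Finset.range (m + 1), a (d * i) * a (d * (m - i)) := by
      rw [Nat.card_sigma, ← Finset.sum_coe_sort (Finset.range (m + 1)) fun i => a (d * i) * a (d * (m - i))]
      exact Finset.sum_congr rfl fun i _ => Nat.card_prod _ _
    rw [← hT]
    refine Nat.card_le_card_of_injective (fun x => ⟨up x.2.1.1 x.2.2.1, hupnn _ _ x.2.1.2.1 x.2.2.2.1, ?_⟩) ?_
    · have h1 := hupdeg x.2.1.1 x.2.2.1
      rw [x.2.1.2.2, x.2.2.2.2] at h1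
      have hi := Finset.mem_range.1 x.1.2
      have h2 : (d : ℤ) * (up x.2.1.1 x.2.2.1).deg = (d : ℤ) * m := by
        rw [h1]; push_cast [Nat.cast_sub (show (x.1 : ℕ) ≤ m by omega)]; ring
      exact mul_left_cancel₀ (by omega) h2
    · rintro ⟨i, A, B⟩ ⟨i', A', B'⟩ h
      have he : up A.1 B.1 = up A'.1 B'.1 := congrArg Subtype.val h
      have hA : A.1 = A'.1 := Finsupp.ext fun P => by rw [← (hupval A.1 B.1 P).1, he, (hupval A'.1 B'.1 P).1]
      have hB : B.1 = B'.1 := Finsupp.ext fun P => by rw [← (hupval A.1 B.1 P).2, he, (hupval A'.1 B'.1 P).2]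
      have hi : i = i' := Subtype.ext (by
        have h1 : ((d * i.1 : ℕ) : ℤ) = ((d * i'.1 : ℕ) : ℤ) := by rw [← A.2.2, hA, A'.2.2]
        exact Nat.eq_of_mul_eq_mul_left (show 0 < d by omega) (by exact_mod_cast h1))
      subst hi
      exact Sigma.ext rfl (heq_of_eq (Prod.ext (Subtype.ext hA) (Subtype.ext hB)))
  -- choose `m` large
  set M := h' * q ^ (d + 2 * g) + 1 with hM
  set m := M + 4 * g + 2 * g' with hm
  have hmain : M * q ^ (d * m - 2 * g) ≤ h' * q ^ (d * (m + 1)) := by
    refine le_trans ?_ ((hpairs m).trans (hup m (by omega)))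
    have hsub : Finset.Ico (2 * g) (2 * g + M) ⊆ Finset.range (m + 1) := fun i hi => by
      rw [Finset.mem_Ico] at hi; rw [Finset.mem_range]; omega
    refine le_trans ?_ (Finset.sum_le_sum_of_subset hsub)
    have := Finset.card_nsmul_le_sum (Finset.Ico (2 * g) (2 * g + M))
      (fun i => a (d * i) * a (d * (m - i))) (q ^ (d * m - 2 * g)) fun i hi => by
        rw [Finset.mem_Ico] at hi
        have h1 : 2 * g ≤ d * i := le_trans hi.1 (Nat.le_mul_of_pos_left i (by omega))
        have h2 : 2 * g ≤ d * (m - i) := le_trans (by omega) (Nat.le_mul_of_pos_left (m - i) (by omega))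
        have h4 : d * i + d * (m - i) = d * m := by rw [← mul_add]; congr 1; omega
        calc q ^ (d * m - 2 * g) = q ^ (d * i - g) * q ^ (d * (m - i) - g) := by
              rw [← pow_add]; congr 1; omega
          _ ≤ _ := Nat.mul_le_mul (hlow i h1) (hlow (m - i) h2)
    simpa using this
  have h1 : q ^ (d * (m + 1)) = q ^ (d + 2 * g) * q ^ (d * m - 2 * g) := by
    rw [← pow_add]; congr 1
    have : 2 * g ≤ d * m := le_trans (by omega) (Nat.le_mul_of_pos_left m (by omega))
    rw [mul_add, mul_one]; omega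
  rw [h1, ← mul_assoc] at hmain
  have := Nat.le_of_mul_le_mul_right hmain (pow_pos (by omega) _)
  omega

theorem deg_surjective (hK : IsFunctionField k K) :
    Function.Surjective (Divisor.deg : Divisor k K → ℤ) := fun n => by
  obtain ⟨D, hD⟩ := exists_deg_one hK
  exact ⟨n • D, by rw [deg_smul, hD, mul_one]⟩

end Groth.Agent.Zeta
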