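/-
Rationality and functional equation of the zeta series.
-/
import Groth.Agent.L26.Zeta.Schmidt
import Mathlib.RingTheory.PowerSeries.Trunc
import Mathlib.Algebra.Order.Field.Basic
import Mathlib.Tactic.LinearCombination

open WithZero
open scoped PowerSeries

namespace Groth.Agent.Zeta

open FunFld Groth.Agent.FF

variable {k K : Type*} [Field k] [Field K] [Algebra k K] [Finite k]

/-- `∑_c q^{ℓ(c + n D)}`. -/
noncomputable def classSum (D : Divisor k K) (n : ℤ) : ℚ :=
  ∑ᶠ c : Cl k K, (Nat.card k : ℚ) ^ ell ((Quotient.out c).1 + n • D)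

omit [Finite k] in
lemma ell_class (hK : IsFunctionField k K) {A B : (degHom k K).ker}
    (h : (QuotientAddGroup.mk A : Cl k K) = QuotientAddGroup.mk B) (E : Divisor k K) :
    ell (A.1 + E) = ell (B.1 + E) := by
  rw [QuotientAddGroup.eq, AddSubgroup.mem_addSubgroupOf, mem_prinDivs hK.1] at h
  obtain ⟨z, hz, hzE⟩ := h
  rw [show B.1 + E = A.1 + E + FunFld.div k z by
    rw [hzE, AddSubgroup.coe_add, AddSubgroup.coe_neg]; abel, ell_add_div hK _ hz]

theorem classSum_neg (hK : IsFunctionField k K) {D : Divisor k K} (hD : D.deg = 1) {n : ℤ} (hn : n < 0) :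
    classSum D n = classNum k K := by
  haveI := finite_cl hK
  haveI : Fintype (Cl k K) := Fintype.ofFinite _
  rw [classSum, finsum_eq_sum_of_fintype]
  have h : ∀ c : Cl k K, ell ((Quotient.out c).1 + n • D) = 0 := fun c => by
    rw [ell, L_eq_bot_of_deg_neg hK.1, finrank_bot]
    rw [deg_add, deg_smul, hD, ← degHom_apply, AddMonoidHom.mem_ker.1 (Quotient.out c).2]
    omega
  simp only [h, pow_zero, Finset.sum_const, Finset.card_univ, ← Nat.card_eq_fintype_card, classNum,
    nsmul_eq_mul, mul_one]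

theorem classSum_eff (hK : IsFunctionField k K) {D : Divisor k K} (hD : D.deg = 1) (n : ℕ) :
    ((Nat.card k : ℚ) - 1) * (effDivCount k K n : ℚ) = classSum D n - classNum k K := by
  haveI := finite_cl hK
  haveI : Fintype (Cl k K) := Fintype.ofFinite _
  have h := effDivCount_eq hK ((n : ℤ) • D) n (by rw [deg_smul, hD, mul_one])
  rw [finsum_eq_sum_of_fintype] at h
  have h' := congrArg (fun z : ℤ => (z : ℚ)) h
  push_cast at h'
  rw [h', classSum, finsum_eq_sum_of_fintype, Finset.sum_sub_distrib]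
  simp [classNum, ← Nat.card_eq_fintype_card]

theorem classSum_rr (hK : IsFunctionField k K) {D : Divisor k K} (hD : D.deg = 1) (n : ℤ) :
    classSum D n = (Nat.card k : ℚ) ^ (n + 1 - genus k K) * classSum D (2 * genus k K - 2 - n) := by
  haveI := finite_cl hK
  haveI : Fintype (Cl k K) := Fintype.ofFinite _
  obtain ⟨C, hC⟩ := exists_isCanonical hK
  obtain ⟨-, dC⟩ := ell_canonical hK hC
  have hq : (Nat.card k : ℚ) ≠ 0 := Nat.cast_ne_zero.2 Nat.card_pos.ne'
  let C₀ : (degHom k K).ker := ⟨C - (2 * (genus k K : ℤ) - 2) • D, by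
    rw [AddMonoidHom.mem_ker, degHom_apply, deg_sub, deg_smul, hD, dC]; ring⟩
  rw [classSum, classSum, finsum_eq_sum_of_fintype, finsum_eq_sum_of_fintype, Finset.mul_sum]
  refine Fintype.sum_equiv (Equiv.subLeft (QuotientAddGroup.mk C₀ : Cl k K)) _ _ fun c => ?_
  set c' : Cl k K := Equiv.subLeft (QuotientAddGroup.mk C₀ : Cl k K) c with hc'
  have h1 : (QuotientAddGroup.mk (Quotient.out c') : Cl k K) = QuotientAddGroup.mk (C₀ - Quotient.out c) := by
    rw [QuotientAddGroup.out_eq', QuotientAddGroup.mk_sub, QuotientAddGroup.out_eq']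
    rfl
  have h2 := ell_class hK h1 ((2 * (genus k K : ℤ) - 2 - n) • D)
  rw [h2]
  have h3 := riemann_roch hK hC ((Quotient.out c).1 + n • D)
  rw [deg_add, deg_smul, hD, ← degHom_apply, AddMonoidHom.mem_ker.1 (Quotient.out c).2,
    show C - ((Quotient.out c).1 + n • D) = (C₀ - Quotient.out c).1 + (2 * (genus k K : ℤ) - 2 - n) • D by
      simp only [C₀, AddSubgroup.coe_sub, sub_smul]; abel] at h3
  rw [← zpow_natCast, ← zpow_natCast, ← zpow_add₀ hq]
  congr 1
  linarith

/-- The coefficient of the numerator, for every integer index. -/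
noncomputable def lcoef (k K : Type*) [Field k] [Field K] [Algebra k K] (D : Divisor k K) (n : ℤ) : ℚ :=
  classSum D n - ((Nat.card k : ℚ) + 1) * classSum D (n - 1) + (Nat.card k : ℚ) * classSum D (n - 2)

omit [Finite k] in
lemma coeff_numerZ (n : ℕ) :
    ((PowerSeries.coeff n (numerZ k K) : ℤ) : ℚ) =
      (effDivCount k K n : ℚ) - ((Nat.card k : ℚ) + 1) * (if 1 ≤ n then (effDivCount k K (n - 1) : ℚ) else 0) +
        (Nat.card k : ℚ) * (if 2 ≤ n then (effDivCount k K (n - 2) : ℚ) else 0) := by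
  have e : (1 - PowerSeries.X) * (1 - PowerSeries.C (Nat.card k : ℤ) * PowerSeries.X) * zetaZ k K =
      zetaZ k K - PowerSeries.C ((Nat.card k : ℤ) + 1) * (PowerSeries.X * zetaZ k K) +
        PowerSeries.C (Nat.card k : ℤ) * (PowerSeries.X * (PowerSeries.X * zetaZ k K)) := by
    rw [map_add, map_one]; ring
  unfold numerZ
  rw [e, map_add, map_sub, PowerSeries.coeff_C_mul, PowerSeries.coeff_C_mul]
  match n with
  | 0 => simp [zetaZ]
  | 1 => simp [zetaZ]
  | n + 2 => simp [zetaZ]

theorem coeff_numerZ_eq (hK : IsFunctionField k K) {D : Divisor k K} (hD : D.deg = 1) (n : ℕ) :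
    ((Nat.card k : ℚ) - 1) * ((PowerSeries.coeff n (numerZ k K) : ℤ) : ℚ) = lcoef k K D n := by
  have hext : ∀ j : ℕ, ((Nat.card k : ℚ) - 1) * (if j ≤ n then (effDivCount k K (n - j) : ℚ) else 0) =
      classSum D ((n : ℤ) - j) - classNum k K := fun j => by
    split_ifs with h
    · rw [classSum_eff hK hD, Nat.cast_sub h]
    · rw [classSum_neg hK hD (by omega), sub_self, mul_zero]
  have h0 := classSum_eff hK hD n
  have h1 := hext 1
  have h2 := hext 2
  push_cast at h1 h2
  rw [coeff_numerZ, lcoef]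
  linear_combination h0 - ((Nat.card k : ℚ) + 1) * h1 + (Nat.card k : ℚ) * h2

theorem lcoef_symm (hK : IsFunctionField k K) {D : Divisor k K} (hD : D.deg = 1) (i : ℤ) :
    lcoef k K D (2 * genus k K - i) = (Nat.card k : ℚ) ^ ((genus k K : ℤ) - i) * lcoef k K D i := by
  have hq : (Nat.card k : ℚ) ≠ 0 := Nat.cast_ne_zero.2 Nat.card_pos.ne'
  rw [lcoef, lcoef, classSum_rr hK hD (2 * (genus k K : ℤ) - i), classSum_rr hK hD (2 * (genus k K : ℤ) - i - 1),
    classSum_rr hK hD (2 * (genus k K : ℤ) - i - 2)]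
  rw [show 2 * (genus k K : ℤ) - 2 - (2 * genus k K - i) = i - 2 by ring,
    show 2 * (genus k K : ℤ) - 2 - (2 * genus k K - i - 1) = i - 1 by ring,
    show 2 * (genus k K : ℤ) - 2 - (2 * genus k K - i - 2) = i by ring,
    show 2 * (genus k K : ℤ) - i + 1 - genus k K = ((genus k K : ℤ) - i) + 1 by ring,
    show 2 * (genus k K : ℤ) - i - 1 + 1 - genus k K = ((genus k K : ℤ) - i) by ring,
    show 2 * (genus k K : ℤ) - i - 2 + 1 - genus k K = ((genus k K : ℤ) - i) - 1 by ring,
    zpow_add_one₀ hq, zpow_sub_one₀ hq]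
  field_simp
  ring

omit [Finite k] in
lemma effDivCount_zero (hK : IsFunctionField k K) : effDivCount k K 0 = 1 := by
  haveI : Subsingleton {D : Divisor k K // 0 ≤ D ∧ D.deg = (0 : ℕ)} := ⟨fun A B => Subtype.ext (by
    rw [eq_zero_of_deg_zero hK A.2.1 (by exact_mod_cast A.2.2), eq_zero_of_deg_zero hK B.2.1 (by exact_mod_cast B.2.2)])⟩
  haveI : Nonempty {D : Divisor k K // 0 ≤ D ∧ D.deg = (0 : ℕ)} := ⟨⟨0, le_rfl, by rw [deg_zero, Nat.cast_zero]⟩⟩
  exact Nat.card_unique

omit [Finite k] in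
lemma coeff_numerZ_zero (hK : IsFunctionField k K) : PowerSeries.coeff 0 (numerZ k K) = 1 := by
  have h := coeff_numerZ (k := k) (K := K) 0
  simp only [effDivCount_zero hK, Nat.cast_one, nonpos_iff_eq_zero, one_ne_zero, OfNat.ofNat_ne_zero,
    if_false, mul_zero, sub_zero, add_zero] at h
  exact_mod_cast h

theorem numer_symm (hK : IsFunctionField k K) (i : ℕ) (hi : i ≤ 2 * genus k K) :
    ((PowerSeries.coeff (2 * genus k K - i) (numerZ k K) : ℤ) : ℚ) =
      (Nat.card k : ℚ) ^ ((genus k K : ℤ) - i) * ((PowerSeries.coeff i (numerZ k K) : ℤ) : ℚ) := by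
  obtain ⟨D, hD⟩ := exists_deg_one hK
  have hq : (Nat.card k : ℚ) - 1 ≠ 0 := by
    have : (2 : ℚ) ≤ Nat.card k := by exact_mod_cast (Finite.one_lt_card : 1 < Nat.card k)
    linarith
  refine mul_left_cancel₀ hq ?_
  rw [mul_left_comm, coeff_numerZ_eq hK hD, coeff_numerZ_eq hK hD, ← lcoef_symm hK hD]
  congr 1
  omega

theorem numer_high (hK : IsFunctionField k K) (n : ℕ) (hn : 2 * genus k K < n) :
    PowerSeries.coeff n (numerZ k K) = 0 := by
  obtain ⟨D, hD⟩ := exists_deg_one hK
  have hq : (Nat.card k : ℚ) - 1 ≠ 0 := by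
    have : (2 : ℚ) ≤ Nat.card k := by exact_mod_cast (Finite.one_lt_card : 1 < Nat.card k)
    linarith
  have h : ((Nat.card k : ℚ) - 1) * ((PowerSeries.coeff n (numerZ k K) : ℤ) : ℚ) = 0 := by
    rw [coeff_numerZ_eq hK hD, show (n : ℤ) = 2 * (genus k K : ℤ) - (2 * (genus k K : ℤ) - n) by ring,
      lcoef_symm hK hD, lcoef, classSum_neg hK hD (by omega), classSum_neg hK hD (by omega),
      classSum_neg hK hD (by omega)]
    ring
  exact_mod_cast (mul_eq_zero.1 h).resolve_left hq

theorem numer_top (hK : IsFunctionField k K) :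
    ((PowerSeries.coeff (2 * genus k K) (numerZ k K) : ℤ) : ℚ) = (Nat.card k : ℚ) ^ genus k K := by
  have h := numer_symm hK 0 (Nat.zero_le _)
  rw [Nat.sub_zero, coeff_numerZ_zero hK, Nat.cast_zero, sub_zero, zpow_natCast, Int.cast_one, mul_one] at h
  exact h

/-- The numerator as a polynomial. -/
noncomputable def numerP (k K : Type*) [Field k] [Field K] [Algebra k K] : Polynomial ℤ :=
  PowerSeries.trunc (2 * genus k K + 1) (numerZ k K)

theorem numerP_eq (hK : IsFunctionField k K) : (numerP k K : PowerSeries ℤ) = numerZ k K := by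
  ext n
  rw [Polynomial.coeff_coe]
  simp only [numerP]
  rw [PowerSeries.coeff_trunc]
  split_ifs with h
  · rfl
  · exact (numer_high hK n (by omega)).symm

omit [Finite k] in
lemma sum_coeff_numerZ (N : ℕ) :
    ∑ n ∈ Finset.range (N + 2), ((PowerSeries.coeff n (numerZ k K) : ℤ) : ℚ) =
      (effDivCount k K (N + 1) : ℚ) - (Nat.card k : ℚ) * effDivCount k K N := by
  induction N with
  | zero => rw [Finset.sum_range_succ, Finset.sum_range_one, coeff_numerZ, coeff_numerZ]; norm_num; ring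
  | succ N ih =>
    rw [Finset.sum_range_succ, ih, coeff_numerZ]
    simp only [show 1 ≤ N + 2 by omega, show 2 ≤ N + 2 by omega, if_true, Nat.add_sub_cancel,
      show N + 2 - 1 = N + 1 by omega]
    ring

theorem numerP_eval_one (hK : IsFunctionField k K) : (numerP k K).eval 1 = (classNum k K : ℤ) := by
  set g := genus k K
  set q := Nat.card k
  obtain ⟨D, hD⟩ := exists_deg_one hK
  have hsum : ((((numerP k K).eval 1 : ℤ)) : ℚ) = ∑ n ∈ Finset.range (2 * g + 2), ((PowerSeries.coeff n (numerZ k K) : ℤ) : ℚ) := by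
    rw [Polynomial.eval_eq_sum_range' (n := 2 * g + 2)
      (lt_of_le_of_lt (Polynomial.natDegree_le_iff_coeff_eq_zero.2 fun N hN => ?_) (by omega : 2 * g < 2 * g + 2))]
    · push_cast
      refine Finset.sum_congr rfl fun n _ => ?_
      rw [← numerP_eq hK, Polynomial.coeff_coe]
      simp
    · simp only [numerP]
      rw [PowerSeries.coeff_trunc, if_neg (by omega)]
  rw [sum_coeff_numerZ] at hsum
  have h1 := effDivCount_high hK (2 * g + 1) (by omega) ((2 * g + 1 : ℕ) • D) (by rw [deg_nsmul, hD, mul_one])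
  have h2 := effDivCount_high hK (2 * g) (by omega) ((2 * g : ℕ) • D) (by rw [deg_nsmul, hD, mul_one])
  rw [show 2 * g + 1 + 1 - g = g + 2 by omega] at h1
  rw [show 2 * g + 1 - g = g + 1 by omega] at h2
  have h1' := congrArg (fun z : ℤ => (z : ℚ)) h1
  have h2' := congrArg (fun z : ℤ => (z : ℚ)) h2
  push_cast at h1' h2'
  have hq : (q : ℚ) - 1 ≠ 0 := by
    have : (2 : ℚ) ≤ q := by exact_mod_cast (Finite.one_lt_card : 1 < Nat.card k)
    linarith
  have : ((((numerP k K).eval 1 : ℤ)) : ℚ) = (classNum k K : ℚ) := by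
    refine mul_left_cancel₀ hq ?_
    rw [hsum]
    linear_combination h1' - (q : ℚ) * h2'
  exact_mod_cast this

end Groth.Agent.Zeta
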