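/-
Reciprocal roots of the numerator of the zeta function and their pairing.
-/
import Groth.Agent.L26.Zeta.Functional
import Mathlib.Analysis.Complex.Polynomial.Basic
import Mathlib.Algebra.Polynomial.Reverse
import Mathlib.RingTheory.IntegralClosure.IsIntegral.Basic

open Polynomial

namespace Groth.Agent.Zeta

open FunFld Groth.Agent.FF

/-- A multiset of even cardinality `2g` stable under `a ↦ q / a`, with product `q ^ g`, splits into
pairs of product `q`. -/
lemma exists_pairing {F : Type*} [Field F] {q : F} (hq : q ≠ 0) :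
    ∀ (g : ℕ) (M : Multiset F), Multiset.card M = 2 * g → (0 : F) ∉ M → M.map (q / ·) = M →
      M.prod = q ^ g → ∃ α : Fin (2 * g) → F, (List.ofFn α : Multiset F) = M ∧
        ∀ i, α i * α (Fin.rev i) = q := by
  intro g
  induction g with
  | zero =>
    intro M hM _ _ _
    exact ⟨fun i => i.elim0, by simp [Multiset.card_eq_zero.1 (by simpa using hM)], fun i => i.elim0⟩
  | succ g ih =>
    classical
    intro M hM h0 hmap hprod
    obtain ⟨a, M', rfl⟩ : ∃ a M', M = a ::ₘ (q / a) ::ₘ M' := by
      obtain ⟨a, ha⟩ := Multiset.card_pos_iff_exists_mem.1 (by omega : 0 < Multiset.card M)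
      by_cases h : ∃ b ∈ M, b * b ≠ q
      · obtain ⟨b, hb, hb'⟩ := h
        have hb0 : b ≠ 0 := fun h => h0 (h ▸ hb)
        have hne : q / b ≠ b := fun h => hb' (by rw [div_eq_iff hb0] at h; exact h.symm)
        have hmem : q / b ∈ M.erase b := (Multiset.mem_erase_of_ne hne).2
          (hmap ▸ Multiset.mem_map_of_mem _ hb)
        exact ⟨b, (M.erase b).erase (q / b), by rw [Multiset.cons_erase hmem, Multiset.cons_erase hb]⟩
      · push Not at h
        have key : ∀ b, b ∈ M → b ∈ M.erase b →
            ∃ a M', M = a ::ₘ (q / a) ::ₘ M' := fun b hb hb' => by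
          have hqb : q / b = b := by
            rw [div_eq_iff (fun h : b = 0 => h0 (h ▸ hb))]; exact (h b hb).symm
          exact ⟨b, (M.erase b).erase b, by rw [hqb, Multiset.cons_erase hb', Multiset.cons_erase hb]⟩
        by_cases hd : M.Nodup
        · have hsub : M.toFinset ⊆ {a, -a} := fun b hb => by
            have h2 : b * b = a * a := by rw [h b (Multiset.mem_toFinset.1 hb), h a ha]
            rcases mul_self_eq_mul_self_iff.1 h2 with rfl | rfl <;> simp
          have hcard := Finset.card_le_card hsub
          rw [Multiset.toFinset_card_of_nodup hd, hM] at hcard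
          have h2 := Finset.card_le_two (a := a) (b := -a)
          obtain rfl : g = 0 := by omega
          obtain ⟨x, y, rfl⟩ := Multiset.card_eq_two.1 hM
          have hx : x ≠ 0 := fun h => h0 (by simp [h])
          refine ⟨x, 0, ?_⟩
          have hy : y = q / x := by
            rw [eq_div_iff hx]; simpa [mul_comm] using hprod
          rw [hy]; rfl
        · rw [Multiset.nodup_iff_count_le_one] at hd
          push Not at hd
          obtain ⟨b, hb⟩ := hd
          refine key b (Multiset.count_pos.1 (by omega)) (Multiset.count_pos.1 ?_)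
          rw [Multiset.count_erase_self]
          omega
    have ha : a ≠ 0 := fun h => h0 (by simp [h])
    simp only [Multiset.card_cons] at hM
    simp only [Multiset.map_cons] at hmap
    rw [div_div_cancel₀ hq, Multiset.cons_swap, Multiset.cons_inj_right, Multiset.cons_inj_right] at hmap
    rw [Multiset.prod_cons, Multiset.prod_cons, ← mul_assoc, mul_div_cancel₀ _ ha, pow_succ'] at hprod
    obtain ⟨α, hα, hpair⟩ := ih M' (by omega) (fun h => h0 (by simp [h])) hmap
      (mul_left_cancel₀ hq hprod)
    refine ⟨Fin.cons a (Fin.snoc α (q / a)), ?_, fun i => ?_⟩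
    · change ((List.ofFn (Fin.cons a (Fin.snoc α (q / a)) : Fin (2 * g + 1 + 1) → F) : List F) : Multiset F) = _
      rw [List.ofFn_cons, List.ofFn_succ', List.concat_eq_append]
      simp only [Fin.snoc_castSucc, Fin.snoc_last, ← hα]
      rw [← Multiset.cons_coe, ← Multiset.coe_add]
      simp only [Multiset.coe_singleton]
      rw [add_comm, Multiset.singleton_add]
    · change Fin (2 * g + 1 + 1) at i
      change (Fin.cons a (Fin.snoc α (q / a)) : Fin (2 * g + 1 + 1) → F) i *
        (Fin.cons a (Fin.snoc α (q / a)) : Fin (2 * g + 1 + 1) → F) (Fin.rev i) = q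
      induction i using Fin.cases with
      | zero =>
        rw [Fin.rev_zero, ← Fin.succ_last, Fin.cons_zero, Fin.cons_succ, Fin.snoc_last, mul_div_cancel₀ _ ha]
      | succ j =>
        induction j using Fin.lastCases with
        | last =>
          rw [Fin.cons_succ, Fin.snoc_last, Fin.succ_last, Fin.rev_last, Fin.cons_zero, div_mul_cancel₀ _ ha]
        | cast j =>
          rw [Fin.cons_succ, Fin.snoc_castSucc, Fin.rev_succ, Fin.rev_castSucc, ← Fin.succ_castSucc,
            Fin.cons_succ, Fin.snoc_castSucc, hpair]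

variable {k K : Type*} [Field k] [Field K] [Algebra k K] [Finite k]

/-- The numerator over `ℂ`. -/
noncomputable def numerC (k K : Type*) [Field k] [Field K] [Algebra k K] : Polynomial ℂ :=
  (numerP k K).map (Int.castRingHom ℂ)

lemma coeff_numerC (hK : IsFunctionField k K) (n : ℕ) :
    (numerC k K).coeff n = ((PowerSeries.coeff n (numerZ k K) : ℤ) : ℂ) := by
  rw [numerC, Polynomial.coeff_map, ← numerP_eq hK, Polynomial.coeff_coe]
  rfl

lemma natDegree_numerC (hK : IsFunctionField k K) : (numerC k K).natDegree = 2 * genus k K := by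
  refine le_antisymm (Polynomial.natDegree_le_iff_coeff_eq_zero.2 fun N hN => ?_)
    (Polynomial.le_natDegree_of_ne_zero ?_)
  · rw [coeff_numerC hK, numer_high hK N hN, Int.cast_zero]
  · rw [coeff_numerC hK, Int.cast_ne_zero]
    intro h
    have h1 := numer_top hK
    rw [h, Int.cast_zero] at h1
    exact pow_ne_zero _ (Nat.cast_ne_zero.2 Nat.card_pos.ne') h1.symm

lemma reverse_prod_X_sub_C (M : Multiset ℂ) :
    (M.map fun a => X - C a).prod.reverse = (M.map fun a => 1 - C a * X).prod := by
  induction M using Multiset.induction with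
  | empty => simp [Polynomial.reverse]
  | cons a M ih =>
    rw [Multiset.map_cons, Multiset.prod_cons, Multiset.map_cons, Multiset.prod_cons,
      Polynomial.reverse_mul_of_domain, ih]
    congr 1
    ext n
    rw [Polynomial.coeff_reverse, Polynomial.natDegree_X_sub_C]
    match n with
    | 0 => simp
    | 1 => simp [Polynomial.coeff_one]
    | n + 2 => rw [Polynomial.revAt_eq_self_of_lt (by omega)]; simp [Polynomial.coeff_X, Polynomial.coeff_one, Polynomial.coeff_C]

theorem exists_recip_roots (hK : IsFunctionField k K) :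
    ∃ α : Fin (2 * genus k K) → ℂ, (∀ i, IsIntegral ℤ (α i)) ∧
      numerC k K = ∏ i, (1 - C (α i) * X) ∧ ∀ i, α i * α (Fin.rev i) = (Nat.card k : ℂ) := by
  classical
  set g := genus k K
  set q : ℂ := (Nat.card k : ℂ)
  have hq : q ≠ 0 := Nat.cast_ne_zero.2 Nat.card_pos.ne'
  set L := numerC k K with hL
  have hdeg : L.natDegree = 2 * g := natDegree_numerC hK
  have h0 : L.coeff 0 = 1 := by rw [coeff_numerC hK, coeff_numerZ_zero hK, Int.cast_one]
  have hsym : ∀ i ≤ 2 * g, L.coeff (2 * g - i) = q ^ ((g : ℤ) - i) * L.coeff i := fun i hi => by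
    have h := congrArg (fun r : ℚ => (r : ℂ)) (numer_symm hK i hi)
    push_cast at h
    rw [coeff_numerC hK, coeff_numerC hK]
    exact h
  have htd : L.natTrailingDegree = 0 := Nat.le_zero.1 (Polynomial.natTrailingDegree_le_of_ne_zero (by rw [h0]; exact one_ne_zero))
  set R := L.reverse with hR
  have hRmonic : R.Monic := by
    rw [Monic, hR, Polynomial.reverse_leadingCoeff, Polynomial.trailingCoeff, htd, h0]
  have hRdeg : R.natDegree = 2 * g := by rw [hR, Polynomial.reverse_natDegree, hdeg, htd, Nat.sub_zero]
  have hLR : L = R.reverse := by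
    ext n
    rw [Polynomial.coeff_reverse, hRdeg, hR, Polynomial.coeff_reverse, hdeg, Polynomial.revAt_invol]
  set M := R.roots with hM
  have hsplit : R = (M.map fun a => X - C a).prod :=
    ((IsAlgClosed.splits R).eq_prod_roots_of_monic hRmonic)
  have hcard : Multiset.card M = 2 * g := by
    rw [hM, ← hRdeg]; exact (IsAlgClosed.splits R).natDegree_eq_card_roots.symm
  have hLprod : L = (M.map fun a => 1 - C a * X).prod := by
    rw [hLR, hsplit, reverse_prod_X_sub_C]
  have hR0 : R.eval 0 = q ^ g := by
    rw [← Polynomial.coeff_zero_eq_eval_zero, hR, Polynomial.coeff_reverse, hdeg,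
      Polynomial.revAt_le (Nat.zero_le _), hsym 0 (Nat.zero_le _), h0, mul_one, Nat.cast_zero, sub_zero,
      zpow_natCast]
  have hM0 : (0 : ℂ) ∉ M := fun h => pow_ne_zero g hq (by rw [← hR0]; exact (Polynomial.mem_roots'.1 h).2)
  have hprod : M.prod = q ^ g := by
    rw [← hR0, hsplit, Polynomial.eval_multiset_prod, Multiset.map_map]
    simp only [Function.comp_apply, eval_sub, eval_X, eval_C, zero_sub]
    rw [Multiset.prod_map_neg, hcard, pow_mul, neg_one_sq, one_pow, one_mul]
  have hmap : M.map (q / ·) = M := by
    have e : R = C (q ^ g) * L.comp (C q⁻¹ * X) := by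
      ext n
      rw [coeff_C_mul, Polynomial.comp_C_mul_X_coeff, hR, Polynomial.coeff_reverse, hdeg]
      rcases le_or_gt n (2 * g) with hn | hn
      · rw [Polynomial.revAt_le hn, hsym n hn, zpow_sub₀ hq, zpow_natCast, zpow_natCast, inv_pow]
        ring
      · have : L.coeff n = 0 := Polynomial.coeff_eq_zero_of_natDegree_lt (hdeg ▸ hn)
        have e2 : Polynomial.revAt (2 * g) n = n := Polynomial.revAt_eq_self_of_lt hn
        rw [e2, this, zero_mul, mul_zero]
    have e2 : L.comp (C q⁻¹ * X) =
        C (M.map fun a => -(a * q⁻¹)).prod * ((M.map (q / ·)).map fun b => X - C b).prod := by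
      rw [hLprod, Polynomial.multiset_prod_comp, Multiset.map_map, map_multiset_prod, Multiset.map_map,
        Multiset.map_map, ← Multiset.prod_map_mul]
      refine congrArg _ (Multiset.map_congr rfl fun a ha => ?_)
      have ha0 : a ≠ 0 := fun h => hM0 (h ▸ ha)
      simp only [Function.comp_apply, sub_comp, one_comp, mul_comp, C_comp, X_comp]
      rw [mul_sub, ← C_mul, show -(a * q⁻¹) * (q / a) = (-1 : ℂ) by field_simp, map_neg, map_neg, map_one,
        map_mul]
      ring
    have hc : q ^ g * (M.map fun a => -(a * q⁻¹)).prod ≠ 0 := by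
      refine mul_ne_zero (pow_ne_zero g hq) (Multiset.prod_ne_zero ?_)
      rw [Multiset.mem_map]
      rintro ⟨a, ha, h⟩
      rw [neg_eq_zero, mul_eq_zero, inv_eq_zero] at h
      exact h.elim (fun h => hM0 (h ▸ ha)) hq
    conv_rhs => rw [hM, e, e2, ← mul_assoc, ← C_mul, Polynomial.roots_C_mul _ hc,
      Polynomial.roots_multiset_prod_X_sub_C]
  obtain ⟨α, hα, hpair⟩ := exists_pairing hq g M hcard hM0 hmap hprod
  refine ⟨α, fun i => ?_, ?_, hpair⟩
  · have hmem : α i ∈ M := by rw [← hα, Multiset.mem_coe, List.mem_ofFn]; exact ⟨i, rfl⟩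
    refine ⟨(numerP k K).reverse, ?_, ?_⟩
    · rw [Monic, Polynomial.reverse_leadingCoeff, Polynomial.trailingCoeff]
      have hp0 : (numerP k K).coeff 0 = 1 := by
        rw [← Polynomial.coeff_coe, numerP_eq hK, coeff_numerZ_zero hK]
      rw [Nat.le_zero.1 (Polynomial.natTrailingDegree_le_of_ne_zero (by rw [hp0]; exact one_ne_zero)), hp0]
    · have hnd : (numerP k K).natDegree = 2 * g := by
        rw [← hdeg, hL, numerC, Polynomial.natDegree_map_eq_of_injective Int.cast_injective]
      have e : R = (numerP k K).reverse.map (Int.castRingHom ℂ) := by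
        ext n
        rw [Polynomial.coeff_map, hR, Polynomial.coeff_reverse, Polynomial.coeff_reverse, hdeg, hnd,
          hL, numerC, Polynomial.coeff_map]
      have h := (Polynomial.mem_roots'.1 hmem).2
      rw [e, Polynomial.IsRoot, Polynomial.eval_map] at h
      rw [algebraMap_int_eq]
      exact h
  · rw [hLprod, ← hα, Multiset.map_coe, Multiset.prod_coe, List.map_ofFn, List.prod_ofFn]
    rfl

end Groth.Agent.Zeta
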