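/-
Logarithmic derivative of the zeta series: place counts in constant extensions.
-/
import Groth.Agent.L26.Zeta.Roots
import Mathlib.RingTheory.PowerSeries.Derivative

open WithZero

namespace Groth.Agent.Zeta

open FunFld Groth.Agent.FF

variable {k K : Type*} [Field k] [Field K] [Algebra k K]

/-- `s_j = ∑_{deg P ∣ j} deg P`. -/
noncomputable def sPl (k K : Type*) [Field k] [Field K] [Algebra k K] (j : ℕ) : ℕ :=
  ∑ᶠ P : Place k K, if P.deg ∣ j then P.deg else 0

variable [Finite k]

lemma sPl_eq (hK : IsFF k K) {j n : ℕ} (hj : 1 ≤ j) (hjn : j ≤ n) :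
    sPl k K j = ∑ P ∈ (finite_places_deg_le hK n).toFinset, if P.deg ∣ j then P.deg else 0 := by
  refine finsum_eq_sum_of_support_subset _ fun P hP => ?_
  simp only [Function.mem_support, ne_eq, ite_eq_right_iff, Classical.not_imp] at hP
  simp only [Set.Finite.coe_toFinset, Set.mem_ofPred_eq]
  exact (Nat.le_of_dvd hj hP.1).trans hjn

lemma finset_deg_one (hK : IsFF k K) :
    sPl k K 1 = Nat.card {P : Place k K // P.deg = 1} := by
  classical
  rw [sPl_eq hK le_rfl le_rfl, Nat.subtype_card {P ∈ (finite_places_deg_le hK 1).toFinset | P.deg = 1}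
    fun P => by
      simp only [Finset.mem_filter, Set.Finite.mem_toFinset, Set.mem_ofPred_eq]
      exact ⟨fun h => h.2, fun h => ⟨h.le, h⟩⟩, Finset.card_filter]
  refine Finset.sum_congr rfl fun P _ => ?_
  by_cases h : P.deg = 1 <;> simp [h]

/-- Euler's recursion `n a_n = ∑_{j=1}^n s_j a_{n-j}`. -/
theorem euler_recursion (hK : IsFF k K) (n : ℕ) :
    n * effDivCount k K n = ∑ j ∈ Finset.Icc 1 n, sPl k K j * effDivCount k K (n - j) := by
  classical
  set E := (finite_eff hK n).toFinset with hE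
  set S := (finite_places_deg_le hK n).toFinset with hS
  have hmemE : ∀ D, D ∈ E ↔ 0 ≤ D ∧ D.deg = (n : ℤ) := fun D => Set.Finite.mem_toFinset _
  have hcardE : E.card = effDivCount k K n := (Nat.subtype_card E hmemE).symm
  have hsupp : ∀ D ∈ E, D.support ⊆ S := fun D hD P hP => by
    obtain ⟨h0, hd⟩ := (hmemE D).1 hD
    have h1 := coe_le_deg_of_nonneg h0 P
    have h2 := h0 P
    rw [Finsupp.mem_support_iff] at hP
    simp only [Finsupp.zero_apply] at h2
    rw [hS, Set.Finite.mem_toFinset, Set.mem_ofPred_eq]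
    rw [hd] at h1
    have h3 : (1 : ℤ) ≤ D P := by omega
    have : (P.deg : ℤ) ≤ n := le_trans (le_mul_of_one_le_left (Int.natCast_nonneg _) h3) h1
    exact_mod_cast this
  have hle : ∀ D ∈ E, ∀ P, D P ≤ (n : ℤ) := fun D hD P => by
    obtain ⟨h0, hd⟩ := (hmemE D).1 hD
    have h1 := coe_le_deg_of_nonneg h0 P
    rw [hd] at h1
    have h2 : (1 : ℤ) ≤ P.deg := by exact_mod_cast one_le_deg hK P
    have h4 := h0 P
    simp only [Finsupp.zero_apply] at h4
    nlinarith
  have hcount : ∀ (P : Place k K) (i : ℕ), (E.filter fun D => (i : ℤ) ≤ D P).card =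
      if i * P.deg ≤ n then effDivCount k K (n - i * P.deg) else 0 := fun P i => by
    split_ifs with h
    · have e : effDivCount k K (n - i * P.deg) = (finite_eff hK (n - i * P.deg)).toFinset.card :=
        Nat.subtype_card _ fun D => Set.Finite.mem_toFinset _
      rw [e]
      refine Finset.card_nbij' (fun D => D - Finsupp.single P (i : ℤ)) (fun D => D + Finsupp.single P (i : ℤ))
        (fun D hD => ?_) (fun D hD => ?_) (fun D _ => sub_add_cancel _ _) (fun D _ => add_sub_cancel_right _ _)
      · simp only [Finset.coe_filter, Set.mem_ofPred_eq] at hD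
        obtain ⟨h0, hd⟩ := (hmemE D).1 hD.1
        simp only [Set.Finite.coe_toFinset, Set.mem_ofPred_eq]
        refine ⟨fun Q => ?_, ?_⟩
        · rw [Finsupp.sub_apply, Finsupp.zero_apply, Finsupp.single_apply]
          split_ifs with hQ
          · subst hQ; linarith [hD.2]
          · simpa using h0 Q
        · rw [deg_sub, deg_single, hd, Nat.cast_sub h]; push_cast; ring
      · simp only [Set.Finite.coe_toFinset, Set.mem_ofPred_eq] at hD
        simp only [Finset.coe_filter, Set.mem_ofPred_eq]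
        refine ⟨(hmemE _).2 ⟨fun Q => ?_, ?_⟩, ?_⟩
        · rw [Finsupp.add_apply, Finsupp.zero_apply, Finsupp.single_apply]
          have := hD.1 Q
          simp only [Finsupp.zero_apply] at this
          split_ifs <;> omega
        · rw [deg_add, deg_single, hD.2, Nat.cast_sub h]; push_cast; ring
        · rw [Finsupp.add_apply, Finsupp.single_eq_same]
          have := hD.1 P
          simp only [Finsupp.zero_apply] at this
          omega
    · rw [Finset.card_eq_zero, Finset.filter_eq_empty_iff]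
      intro D hD hi
      obtain ⟨h0, hd⟩ := (hmemE D).1 hD
      have h1 := coe_le_deg_of_nonneg h0 P
      rw [hd] at h1
      have h2 : (i : ℤ) * P.deg ≤ n := le_trans (mul_le_mul_of_nonneg_right hi (Int.natCast_nonneg _)) h1
      exact h (by exact_mod_cast h2)
  have hdeg : ∀ D ∈ E, n = ∑ P ∈ S, P.deg * ((Finset.Icc 1 n).filter fun i : ℕ => (i : ℤ) ≤ D P).card := fun D hD => by
    obtain ⟨h0, hd⟩ := (hmemE D).1 hD
    have h1 : ∀ P ∈ S, (((P.deg * ((Finset.Icc 1 n).filter fun i : ℕ => (i : ℤ) ≤ D P).card : ℕ)) : ℤ) =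
        D P * P.deg := fun P _ => by
      have h2 := h0 P
      have h3 := hle D hD P
      simp only [Finsupp.zero_apply] at h2
      rw [show ((Finset.Icc 1 n).filter fun i : ℕ => (i : ℤ) ≤ D P) = Finset.Icc 1 (D P).toNat by
        ext i; simp only [Finset.mem_filter, Finset.mem_Icc]; omega, Nat.card_Icc]
      push_cast
      rw [Int.toNat_of_nonneg h2]
      ring
    have := deg_eq_sum (D := D) (s := S) (hsupp D hD)
    rw [← Finset.sum_congr rfl h1, hd, ← Nat.cast_sum] at this
    exact_mod_cast this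
  calc n * effDivCount k K n = ∑ D ∈ E, n := by rw [Finset.sum_const, hcardE, smul_eq_mul, mul_comm]
    _ = ∑ D ∈ E, ∑ P ∈ S, P.deg * ((Finset.Icc 1 n).filter fun i : ℕ => (i : ℤ) ≤ D P).card :=
      Finset.sum_congr rfl hdeg
    _ = ∑ P ∈ S, P.deg * ∑ i ∈ Finset.Icc 1 n, (E.filter fun D => (i : ℤ) ≤ D P).card := by
      rw [Finset.sum_comm]
      refine Finset.sum_congr rfl fun P _ => ?_
      rw [← Finset.mul_sum]
      congr 1
      simp only [Finset.card_filter]
      exact Finset.sum_comm
    _ = ∑ P ∈ S, ∑ j ∈ Finset.Icc 1 n, (if P.deg ∣ j then P.deg else 0) * effDivCount k K (n - j) := by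
      refine Finset.sum_congr rfl fun P _ => ?_
      simp only [hcount, ite_mul, zero_mul, Finset.mul_sum, mul_ite, mul_zero, ← Finset.sum_filter]
      have hd := one_le_deg hK P
      refine Finset.sum_nbij' (fun i => i * P.deg) (fun j => j / P.deg) (fun i hi => ?_) (fun j hj => ?_)
        (fun i _ => Nat.mul_div_cancel _ hd) (fun j hj => ?_) (fun i _ => rfl)
      · simp only [Finset.mem_filter, Finset.mem_Icc] at hi ⊢
        exact ⟨⟨Nat.mul_pos hi.1.1 hd, hi.2⟩, dvd_mul_left _ _⟩
      · simp only [Finset.mem_filter, Finset.mem_Icc] at hj ⊢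
        refine ⟨⟨Nat.div_pos (Nat.le_of_dvd hj.1.1 hj.2) hd, (Nat.div_le_self _ _).trans hj.1.2⟩, ?_⟩
        rw [Nat.div_mul_cancel hj.2]; exact hj.1.2
      · simp only [Finset.mem_filter] at hj
        exact Nat.div_mul_cancel hj.2
    _ = _ := by
      rw [Finset.sum_comm]
      refine Finset.sum_congr rfl fun j hj => ?_
      rw [Finset.mem_Icc] at hj
      rw [sPl_eq hK hj.1 hj.2, Finset.sum_mul]

/-! ### Power series -/

section series

open PowerSeries

variable {R : Type*} [CommRing R]

/-- `X d/dX`. -/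
noncomputable def theta (f : PowerSeries R) : PowerSeries R :=
  PowerSeries.mk fun n => (n : R) * coeff n f

/-- `f` has logarithmic derivative `g`. -/
def HasLog (f g : PowerSeries R) : Prop := theta f = g * f

lemma theta_mul (f g : PowerSeries R) : theta (f * g) = theta f * g + f * theta g := by
  ext n
  simp only [theta, coeff_mk, map_add, coeff_mul, Finset.mul_sum, ← Finset.sum_add_distrib]
  refine Finset.sum_congr rfl fun p hp => ?_
  rw [Finset.mem_antidiagonal] at hp
  rw [← hp, Nat.cast_add]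
  ring

lemma HasLog.mul {f g a b : PowerSeries R} (hf : HasLog f a) (hg : HasLog g b) :
    HasLog (f * g) (a + b) := by
  unfold HasLog at *
  rw [theta_mul, hf, hg]; ring

lemma hasLog_one : HasLog (1 : PowerSeries R) 0 := by
  rw [HasLog, zero_mul]
  ext n
  rw [theta, coeff_mk, coeff_one, map_zero]
  split_ifs with h <;> simp [h]

/-- `∑_{j ≥ 1} a^j t^j`. -/
noncomputable def geo (a : R) : PowerSeries R := PowerSeries.mk fun j => if j = 0 then 0 else a ^ j

lemma hasLog_lin (a : R) : HasLog (1 - C a * X) (-geo a) := by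
  have e : geo a * (1 - C a * X) = C a * X := by
    ext n
    rw [mul_sub, mul_one, map_sub, show geo a * (C a * X) = C a * (geo a * X) by ring, coeff_C_mul,
      coeff_C_mul]
    match n with
    | 0 => simp [geo]
    | 1 => simp [geo]
    | n + 2 => simp [geo, coeff_X]; ring
  rw [HasLog, neg_mul, e]
  ext n
  rw [theta, coeff_mk, map_sub, map_neg, coeff_C_mul, coeff_one]
  match n with
  | 0 => simp
  | 1 => simp
  | n + 2 => simp [coeff_X]

lemma HasLog.prod {ι : Type*} (s : Finset ι) {f g : ι → PowerSeries R} (h : ∀ i ∈ s, HasLog (f i) (g i)) :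
    HasLog (∏ i ∈ s, f i) (∑ i ∈ s, g i) := by
  classical
  induction s using Finset.induction with
  | empty => simpa using hasLog_one
  | insert i s hi ih =>
    rw [Finset.prod_insert hi, Finset.sum_insert hi]
    exact (h i (Finset.mem_insert_self _ _)).mul (ih fun j hj => h j (Finset.mem_insert_of_mem hj))

lemma HasLog.ext [IsDomain R] [CharZero R] {f g a : PowerSeries R} (hf : HasLog f a) (hg : HasLog g a)
    (ha : coeff 0 a = 0) (h0 : coeff 0 f = coeff 0 g) : f = g := by
  ext n
  induction n using Nat.strong_induction_on with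
  | _ n ih =>
    rcases n.eq_zero_or_pos with rfl | hn
    · exact h0
    have h1 := congrArg (coeff n) hf
    have h2 := congrArg (coeff n) hg
    simp only [theta, coeff_mk, coeff_mul] at h1 h2
    refine mul_left_cancel₀ (Nat.cast_ne_zero.2 hn.ne' : (n : R) ≠ 0) ?_
    rw [h1, h2]
    refine Finset.sum_congr rfl fun p hp => ?_
    rw [Finset.mem_antidiagonal] at hp
    rcases Nat.eq_zero_or_pos p.1 with h | h
    · rw [h, ha, zero_mul, zero_mul]
    · rw [ih p.2 (by omega)]

end series

section main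

open PowerSeries

/-- `∑ s_j t^j`. -/
noncomputable def sSer (k K : Type*) [Field k] [Field K] [Algebra k K] : PowerSeries ℂ :=
  PowerSeries.mk fun j => if j = 0 then 0 else (sPl k K j : ℂ)

lemma hasLog_zeta (hK : IsFF k K) :
    HasLog (PowerSeries.map (Int.castRingHom ℂ) (zetaZ k K)) (sSer k K) := by
  ext n
  simp only [theta, coeff_mk, coeff_map, zetaZ, eq_intCast, Int.cast_natCast, coeff_mul,
    Finset.Nat.sum_antidiagonal_eq_sum_range_succ_mk, sSer]
  rw [← Nat.cast_mul, euler_recursion hK n, Nat.cast_sum]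
  refine Finset.sum_subset_zero_on_sdiff (fun j hj => ?_) (fun j hj => ?_) (fun j hj => ?_)
  · simp only [Finset.mem_Icc, Finset.mem_range] at hj ⊢; omega
  · simp only [Finset.mem_sdiff, Finset.mem_Icc, Finset.mem_range] at hj
    rw [if_pos (by omega), zero_mul]
  · simp only [Finset.mem_Icc] at hj
    rw [if_neg (by omega), Nat.cast_mul]

lemma hasLog_numer (hK : IsFF k K) :
    HasLog (PowerSeries.map (Int.castRingHom ℂ) (numerZ k K))
      (-geo 1 + -geo (Nat.card k : ℂ) + sSer k K) := by
  unfold numerZ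
  rw [map_mul, map_mul, map_sub, map_sub, map_one, map_mul, PowerSeries.map_X, PowerSeries.map_C,
    eq_intCast, Int.cast_natCast]
  refine (HasLog.mul ?_ (hasLog_lin _)).mul (hasLog_zeta hK)
  simpa using hasLog_lin (1 : ℂ)

lemma hasLog_roots {ι : Type*} [Fintype ι] (α : ι → ℂ) :
    HasLog ((∏ i, (1 - Polynomial.C (α i) * Polynomial.X) : Polynomial ℂ) : PowerSeries ℂ)
      (∑ i, -geo (α i)) := by
  rw [← Polynomial.coeToPowerSeries.ringHom_apply, map_prod]
  refine HasLog.prod _ fun i _ => ?_
  rw [Polynomial.coeToPowerSeries.ringHom_apply, Polynomial.coe_sub, Polynomial.coe_one,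
    Polynomial.coe_mul, Polynomial.coe_C, Polynomial.coe_X]
  exact hasLog_lin _

lemma coeff_zero_numerC (hK : IsFunctionField k K) :
    coeff 0 (PowerSeries.map (Int.castRingHom ℂ) (numerZ k K)) = 1 := by
  rw [coeff_map, coeff_numerZ_zero hK, map_one]

/-- `s_j = 1 + q^j - ∑ αᵢ^j`. -/
theorem sPl_roots (hK : IsFunctionField k K) {ι : Type*} [Fintype ι] (α : ι → ℂ)
    (hα : PowerSeries.map (Int.castRingHom ℂ) (numerZ k K) =
      ((∏ i, (1 - Polynomial.C (α i) * Polynomial.X) : Polynomial ℂ) : PowerSeries ℂ))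
    {j : ℕ} (hj : 1 ≤ j) :
    (sPl k K j : ℂ) = 1 + (Nat.card k : ℂ) ^ j - ∑ i, α i ^ j := by
  have h1 := hasLog_numer hK.1
  have h2 := hasLog_roots α
  rw [← hα] at h2
  have h0 : PowerSeries.map (Int.castRingHom ℂ) (numerZ k K) ≠ 0 := fun h => by
    have := coeff_zero_numerC hK
    rw [h, map_zero] at this
    exact zero_ne_one this
  have h3 := congrArg (coeff j) (mul_right_cancel₀ h0 (h1.symm.trans h2))
  simp only [map_add, map_neg, map_sum, Finset.sum_neg_distrib, geo, sSer, coeff_mk,
    if_neg (show j ≠ 0 by omega), one_pow] at h3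
  linear_combination h3

end main

/-! ### Constant extensions -/

section ext

variable {k' K' : Type*} [Field k'] [Field K'] [Algebra k k'] [Algebra K K'] [Algebra k' K'] [Algebra k K']
  [IsScalarTower k K K'] [IsScalarTower k k' K']

theorem sPl_cext (C : CExt k K k' K') (hK : IsFunctionField k K) {m : ℕ} (hm : 1 ≤ m) :
    sPl k' K' m = sPl k K (Module.finrank k k' * m) := by
  classical
  haveI := C.fin
  haveI := C.finK
  haveI : Finite k' := Module.finite_of_finite k
  have hK' := C.isFunctionField hK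
  set r := Module.finrank k k' with hr
  have hrpos := C.rpos
  choose below hbelow using fun Q : Place k' K' =>
    exists_below (K' := K') hK.1 (C.placeEquiv Q)
  obtain ⟨e, he⟩ : ∃ e : Place k' K' → ℕ, ∀ Q, IsOverWith (C.placeEquiv Q) (below Q) (e Q) :=
    ⟨fun Q => (hbelow Q).choose, fun Q => (hbelow Q).choose_spec⟩
  have key : ∀ Q, Q.deg * Nat.gcd (below Q).deg r = (below Q).deg := fun Q => by
    have h := ((C.split hK (below Q)).2 (C.placeEquiv Q) ⟨_, he Q⟩).2
    rw [C.deg_placeEquiv, ← hr, mul_assoc] at h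
    exact Nat.eq_of_mul_eq_mul_left hrpos h
  have hiff : ∀ d x : ℕ, x * Nat.gcd d r = d → 0 < d → (x ∣ m ↔ d ∣ r * m) := fun d x hx hd => by
    constructor
    · intro h
      rw [← hx, mul_comm r m]
      exact Nat.mul_dvd_mul h (Nat.gcd_dvd_right _ _)
    · intro h
      have hg : 0 < Nat.gcd d r := Nat.gcd_pos_of_pos_left _ hd
      have h1 : d ∣ Nat.gcd d r * m := by
        rw [← Nat.gcd_mul_right]; exact Nat.dvd_gcd (dvd_mul_right _ _) h
      nth_rw 1 [← hx] at h1
      rw [mul_comm] at h1
      exact Nat.dvd_of_mul_dvd_mul_left hg h1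
  set T := (finite_places_deg_le hK'.1 m).toFinset.filter fun Q => Q.deg ∣ m with hT
  set S := (finite_places_deg_le hK.1 (r * m)).toFinset.filter fun P => P.deg ∣ r * m with hS
  have hrm : 1 ≤ r * m := Nat.mul_pos hrpos hm
  rw [sPl_eq hK'.1 hm le_rfl, sPl_eq hK.1 hrm le_rfl, ← Finset.sum_filter, ← Finset.sum_filter, ← hT, ← hS]
  have hmapT : ∀ Q ∈ T, below Q ∈ S := fun Q hQ => by
    rw [hT, Finset.mem_filter] at hQ
    have hd := one_le_deg hK.1 (below Q)
    have h := (hiff _ _ (key Q) hd).1 hQ.2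
    rw [hS, Finset.mem_filter, Set.Finite.mem_toFinset]
    exact ⟨Nat.le_of_dvd hrm h, h⟩
  rw [← Finset.sum_fiberwise_of_maps_to hmapT]
  refine Finset.sum_congr rfl fun P hP => ?_
  rw [hS, Finset.mem_filter] at hP
  obtain ⟨hcard, hdeg⟩ := C.split hK P
  have hfib : ∀ Q, Q ∈ T.filter (fun Q => below Q = P) ↔ IsOver (C.placeEquiv Q) P := fun Q => by
    rw [Finset.mem_filter, hT, Finset.mem_filter, Set.Finite.mem_toFinset]
    constructor
    · rintro ⟨-, rfl⟩; exact ⟨_, he Q⟩
    · rintro ⟨e', he'⟩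
      have hb : below Q = P := ((he Q).unique he').1
      have h := (hiff _ _ (key Q) (one_le_deg hK.1 _)).2 (hb ▸ hP.2)
      exact ⟨⟨Nat.le_of_dvd hm h, h⟩, hb⟩
  have hc : (T.filter fun Q => below Q = P).card = Nat.gcd P.deg r := by
    rw [← hcard, ← Nat.subtype_card _ hfib]
    exact Nat.card_congr (C.placeEquiv.subtypeEquiv fun Q => Iff.rfl)
  have hg : 0 < Nat.gcd P.deg r := Nat.gcd_pos_of_pos_left _ (one_le_deg hK.1 P)
  rw [Finset.sum_congr rfl (g := fun _ => P.deg / Nat.gcd P.deg r) fun Q hQ => by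
    have hQ' := (Finset.mem_filter.1 hQ).2
    have h := key Q
    rw [hQ'] at h
    exact (Nat.div_eq_of_eq_mul_left hg h.symm).symm, Finset.sum_const, hc, smul_eq_mul,
    Nat.mul_div_cancel' (Nat.gcd_dvd_left _ _)]

theorem numerZ_cext (C : CExt k K k' K') (hK : IsFunctionField k K) {ι : Type*} [Fintype ι] (α : ι → ℂ)
    (hα : PowerSeries.map (Int.castRingHom ℂ) (numerZ k K) =
      ((∏ i, (1 - Polynomial.C (α i) * Polynomial.X) : Polynomial ℂ) : PowerSeries ℂ)) :
    PowerSeries.map (Int.castRingHom ℂ) (numerZ k' K') =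
      ((∏ i, (1 - Polynomial.C (α i ^ Module.finrank k k') * Polynomial.X) : Polynomial ℂ) : PowerSeries ℂ) := by
  haveI := C.fin
  haveI : Finite k' := Module.finite_of_finite k
  have hK' := C.isFunctionField hK
  have h1 := hasLog_numer hK'.1
  have h2 := hasLog_roots fun i => α i ^ Module.finrank k k'
  have hq : (Nat.card k' : ℂ) = (Nat.card k : ℂ) ^ Module.finrank k k' := by
    rw [Module.natCard_eq_pow_finrank (K := k) (V := k'), Nat.cast_pow]
  have hT : (∑ i, -geo (α i ^ Module.finrank k k')) = -geo 1 + -geo (Nat.card k' : ℂ) + sSer k' K' := by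
    ext j
    simp only [map_add, map_neg, map_sum, Finset.sum_neg_distrib, geo, sSer, PowerSeries.coeff_mk]
    rcases Nat.eq_zero_or_pos j with rfl | hj
    · simp
    · simp only [if_neg hj.ne', one_pow, sPl_cext C hK hj, hq, ← pow_mul,
        sPl_roots hK α hα (Nat.mul_pos C.rpos hj)]
      ring
  rw [hT] at h2
  refine h1.ext h2 (by simp [geo, sSer]) ?_
  rw [coeff_zero_numerC hK', Polynomial.coeff_coe, Polynomial.coeff_zero_eq_eval_zero, Polynomial.eval_prod]
  simp

theorem card_deg_one_cext (C : CExt k K k' K') (hK : IsFunctionField k K) {ι : Type*} [Fintype ι] (α : ι → ℂ)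
    (hα : PowerSeries.map (Int.castRingHom ℂ) (numerZ k K) =
      ((∏ i, (1 - Polynomial.C (α i) * Polynomial.X) : Polynomial ℂ) : PowerSeries ℂ)) :
    (Nat.card {P : Place k' K' // P.deg = 1} : ℂ) =
      1 + (Nat.card k : ℂ) ^ Module.finrank k k' - ∑ i, α i ^ Module.finrank k k' := by
  haveI := C.fin
  haveI : Finite k' := Module.finite_of_finite k
  rw [← finset_deg_one (C.isFunctionField hK).1, sPl_cext C hK le_rfl, mul_one,
    sPl_roots hK α hα C.rpos]

end ext

/-- `N = 1 + q - ∑ αᵢ`. -/
theorem card_deg_one (hK : IsFunctionField k K) {ι : Type*} [Fintype ι] (α : ι → ℂ)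
    (hα : PowerSeries.map (Int.castRingHom ℂ) (numerZ k K) =
      ((∏ i, (1 - Polynomial.C (α i) * Polynomial.X) : Polynomial ℂ) : PowerSeries ℂ)) :
    (Nat.card {P : Place k K // P.deg = 1} : ℂ) = 1 + (Nat.card k : ℂ) - ∑ i, α i := by
  rw [← finset_deg_one hK.1, sPl_roots hK α hα le_rfl]
  simp

end Groth.Agent.Zeta
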