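/-
Stepanov–Bombieri: at most `q + (2g+1)√q` fixed places of a twisted Frobenius.
-/
import Groth.Agent.L26.Zeta.Count
import Mathlib.Algebra.CharP.Lemmas
import Mathlib.RingTheory.Valuation.Basic

open WithZero

namespace Groth.Agent.Zeta

open FunFld Groth.Agent.FF

variable {k L : Type*} [Field k] [Field L] [Algebra k L]

/-- Degree one places fixed by `τ`. -/
def fixSet (k : Type*) {L : Type*} [Field k] [Field L] [Algebra k L] (τ : L → L) : Set (Place k L) :=
  {Q | Q.deg = 1 ∧ ∀ z, Q.1 (τ z) = Q.1 z}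

lemma finite_fixSet [Finite k] (hL : IsFF k L) (τ : L → L) : (fixSet k τ).Finite :=
  (finite_places_deg_le hL 1).subset fun _ hQ => le_of_eq hQ.1

/-- The pole numbers `≤ i` at `P`. -/
noncomputable def poleSet (P : Place k L) (i : ℕ) : Finset ℕ := by
  classical
  exact (Finset.range (i + 1)).filter fun j =>
    ∃ z ∈ FunFld.L (Finsupp.single P (j : ℤ)), P.1 z = exp (j : ℤ)

lemma mem_poleSet {P : Place k L} {i j : ℕ} :
    j ∈ poleSet P i ↔ j ≤ i ∧ ∃ z ∈ FunFld.L (Finsupp.single P (j : ℤ)), P.1 z = exp (j : ℤ) := by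
  rw [poleSet]; simp

lemma ell_le_poleSet (hL : IsFunctionField k L) {P : Place k L} (hP : P.deg = 1) :
    ∀ i : ℕ, ell (Finsupp.single P (i : ℤ)) ≤ (poleSet P i).card := by
  intro i
  induction i with
  | zero =>
    rw [Nat.cast_zero, Finsupp.single_zero, ell_zero hL]
    refine Finset.card_pos.2 ⟨0, mem_poleSet.2 ⟨le_rfl, 1, ?_, by simp⟩⟩
    intro Q; simp
  | succ i ih =>
    have hsub : poleSet P i ⊆ poleSet P (i + 1) := fun j hj => by
      rw [mem_poleSet] at hj ⊢; exact ⟨by omega, hj.2⟩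
    have hle : (Finsupp.single P (i : ℤ) : Divisor k L) ≤ Finsupp.single P ((i + 1 : ℕ) : ℤ) :=
      Finsupp.single_le_single.2 (by push_cast; omega)
    by_cases h : i + 1 ∈ poleSet P (i + 1)
    · have h1 := ell_sub_le hL.1 hle
      rw [deg_single, deg_single, hP] at h1
      have h2 : (poleSet P i).card + 1 ≤ (poleSet P (i + 1)).card := by
        have hni : i + 1 ∉ poleSet P i := fun h' => by have := (mem_poleSet.1 h').1; omega
        rw [← Finset.card_insert_of_notMem hni]
        exact Finset.card_le_card (Finset.insert_subset h hsub)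
      push_cast at h1 ⊢
      omega
    · have hL' : FunFld.L (Finsupp.single P ((i + 1 : ℕ) : ℤ)) ≤ FunFld.L (Finsupp.single P (i : ℤ)) := by
        intro z hz Q
        by_cases hQ : Q = P
        · subst hQ
          rw [Finsupp.single_eq_same]
          have h1 := hz Q
          rw [Finsupp.single_eq_same] at h1
          rcases h1.lt_or_eq with h2 | h2
          · exact (le_exp_sub_one h2).trans (exp_le_exp.2 (by push_cast; omega))
          · exact absurd (mem_poleSet.2 ⟨le_rfl, z, hz, h2⟩) h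
        · have h1 := hz Q
          rw [Finsupp.single_eq_of_ne hQ] at h1 ⊢
          exact h1
      haveI := finite_L hL.1 (Finsupp.single P (i : ℤ) : Divisor k L)
      exact ((Submodule.finrank_mono hL').trans ih).trans (Finset.card_le_card hsub)

theorem stepanov [Finite k] (hL : IsFunctionField k L) (τ : L ≃+* L) {p : ℕ} [ExpChar L p] (a : ℕ)
    (hτ : ∀ c : k, τ (algebraMap k L c) = algebraMap k L (c ^ (p ^ a * p ^ a)))
    (hq : (genus k L + 1) ^ 2 < p ^ a) :
    (fixSet k τ).ncard ≤ p ^ a * p ^ a + (2 * genus k L + 1) * p ^ a := by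
  classical
  set g := genus k L
  set q₀ := p ^ a with hq₀
  rcases Set.eq_empty_or_nonempty (fixSet k τ) with he | ⟨P, hP⟩
  · rw [he, Set.ncard_empty]; exact Nat.zero_le _
  obtain ⟨hP1, hPτ⟩ := hP
  have hfin := finite_fixSet hL.1 τ
  have hg2 : 2 * g + 1 ≤ (g + 1) ^ 2 := by nlinarith
  set m := q₀ - 1 with hm
  set n := q₀ + 2 * g with hn
  let D : ℕ → Divisor k L := fun i => Finsupp.single P (i : ℤ)
  have hdeg : ∀ i, (D i).deg = i := fun i => by rw [deg_single, hP1, Nat.cast_one, mul_one]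
  have hell : ∀ i, 2 * g ≤ i + 1 → ell (D i) + g = i + 1 := fun i hi => by
    have := ell_eq_of_deg_ge hL (D := D i) (by rw [hdeg]; omega)
    rw [hdeg] at this
    omega
  haveI : ∀ i, Module.Finite k (FunFld.L (D i)) := fun i => finite_L hL.1 _
  haveI : ∀ i, Finite (FunFld.L (D i)) := fun i => Module.finite_of_finite k
  set A := poleSet P m with hA
  have hcA : ell (D m) ≤ A.card := ell_le_poleSet hL hP1 m
  choose u hu hu' using fun j : A => (mem_poleSet.1 j.2).2
  have hmem : ∀ (j : A) (Q : Place k L), Q ≠ P → Q.1 (u j) ≤ 1 := fun j Q hQ => by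
    have h := hu j Q
    rwa [Finsupp.single_eq_of_ne hQ, exp_zero] at h
  -- `τ` keeps the spaces `L(iP)`
  have hτL : ∀ (i : ℕ) (z : L), z ∈ FunFld.L (D i) → τ z ∈ FunFld.L (D i) := fun i z hz Q => by
    by_cases hQ : Q = P
    · subst hQ; rw [hPτ]; exact hz Q
    · let Q' : Place k L := ⟨Q.1.comap (τ : L →+* L), fun c => by
        show Q.1 (τ (algebraMap k L c)) ≤ 1
        rw [hτ]; exact Q.2.1 _, Q.2.2.comp τ.surjective⟩
      have hQ' : Q' ≠ P := fun h => hQ (Subtype.ext (Valuation.ext fun w => by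
        obtain ⟨w, rfl⟩ := τ.surjective w
        have h1 : Q.1 (τ w) = P.1 w := congrArg (fun R : Place k L => R.1 w) h
        rw [h1, hPτ]))
      have h2 : Q'.1 z ≤ exp (D i Q') := hz Q'
      rw [show D i Q' = 0 from Finsupp.single_eq_of_ne hQ', exp_zero] at h2
      rw [show D i Q = 0 from Finsupp.single_eq_of_ne hQ, exp_zero]
      exact h2
  have hsub : ∀ x y : L, (x - y) ^ q₀ = x ^ q₀ - y ^ q₀ := fun x y => sub_pow_expChar_pow x y a
  have hq0 : 1 ≤ q₀ := by omega
  -- the map
  have hΛmem : ∀ z : A → FunFld.L (D n), ∑ j, u j ^ q₀ * τ (z j : L) ∈ FunFld.L (D (m * q₀ + n)) := fun z => by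
    refine Submodule.sum_mem _ fun j _ Q => ?_
    rw [map_mul, map_pow]
    have h1 := hτL n _ (z j).2 Q
    by_cases hQ : Q = P
    · subst hQ
      simp only [D, Finsupp.single_eq_same] at h1 ⊢
      rw [hu' j, ← exp_nsmul, nsmul_eq_mul]
      refine (mul_le_mul' le_rfl h1).trans ?_
      rw [← exp_add, exp_le_exp]
      have := (mem_poleSet.1 j.2).1
      push_cast
      nlinarith
    · rw [show D (m * q₀ + n) Q = 0 from Finsupp.single_eq_of_ne hQ, exp_zero]
      rw [show D n Q = 0 from Finsupp.single_eq_of_ne hQ, exp_zero] at h1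
      exact mul_le_one' (pow_le_one' (hmem j Q hQ) _) h1
  let Λ : (A → FunFld.L (D n)) → FunFld.L (D (m * q₀ + n)) := fun z => ⟨_, hΛmem z⟩
  obtain ⟨z, hz, hz0⟩ : ∃ z : A → FunFld.L (D n), ∑ j, u j ^ q₀ * τ (z j : L) = 0 ∧ z ≠ 0 := by
    have hcard : ¬ Function.Injective Λ := fun hinj => by
      have h1 := Nat.card_le_card_of_injective Λ hinj
      rw [Nat.card_fun, Module.natCard_eq_pow_finrank (K := k), Module.natCard_eq_pow_finrank (K := k)
        (V := FunFld.L (D (m * q₀ + n))), ← pow_mul, Nat.card_eq_fintype_card (α := A), Fintype.card_coe,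
        Nat.pow_le_pow_iff_right (Finite.one_lt_card)] at h1
      change ell (D n) * A.card ≤ ell (D (m * q₀ + n)) at h1
      have h2 := hell m (by omega)
      have h3 := hell n (by omega)
      have h4 := hell (m * q₀ + n) (by omega)
      have h5 := Nat.mul_le_mul_left (ell (D n)) hcA
      obtain ⟨x, hx⟩ : ∃ x, q₀ = g + 1 + x := ⟨q₀ - g - 1, by omega⟩
      have h6 : ell (D m) = x + 1 := by omega
      have h7 : ell (D n) = 2 * g + x + 2 := by omega
      have hm' : m = g + x := by omega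
      rw [h6, h7] at h5
      rw [h7] at h1
      rw [hm', hx] at h4
      have hn' : n = 3 * g + 1 + x := by omega
      rw [hn'] at h4
      rw [hx] at hq
      rw [hm', hx, hn'] at h1
      nlinarith
    rw [Function.Injective] at hcard
    push Not at hcard
    obtain ⟨z₁, z₂, he, hne⟩ := hcard
    refine ⟨z₁ - z₂, ?_, sub_ne_zero.2 hne⟩
    have h1 : ∑ j, u j ^ q₀ * τ (z₁ j : L) = ∑ j, u j ^ q₀ * τ (z₂ j : L) := congrArg Subtype.val he
    simp only [Pi.sub_apply, AddSubgroupClass.coe_sub, map_sub, mul_sub, Finset.sum_sub_distrib, h1, sub_self]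
  set E := ∑ j, u j * (z j : L) ^ q₀ with hE
  -- `E` does not vanish
  have hE0 : E ≠ 0 := by
    obtain ⟨j₁, hj₁⟩ := Function.ne_iff.1 hz0
    let S := Finset.univ.filter fun j => (z j : L) ≠ 0
    have hS : S.Nonempty := ⟨j₁, Finset.mem_filter.2 ⟨Finset.mem_univ _, fun h => hj₁ (Subtype.ext h)⟩⟩
    let o : A → ℤ := fun j => (j : ℕ) + q₀ * (-(P.ord (z j : L)))
    have hval : ∀ j ∈ S, P.1 (u j * (z j : L) ^ q₀) = exp (o j) := fun j hj => by
      rw [map_mul, map_pow, hu', val_eq_exp P (Finset.mem_filter.1 hj).2, ← exp_nsmul, ← exp_add, nsmul_eq_mul]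
    have hinj : Set.InjOn o S := fun i _ j _ h => by
      have hi := (mem_poleSet.1 i.2).1
      have hj := (mem_poleSet.1 j.2).1
      have h1 : ((i : ℕ) : ℤ) % q₀ = ((j : ℕ) : ℤ) % q₀ := by
        have := congrArg (· % (q₀ : ℤ)) h
        simpa [o] using this
      rw [Int.emod_eq_of_lt (by omega) (by omega), Int.emod_eq_of_lt (by omega) (by omega)] at h1
      exact Subtype.ext (by exact_mod_cast h1)
    obtain ⟨j₀, hj₀, hmax⟩ := Finset.exists_max_image S o hS
    have hES : E = ∑ j ∈ S, u j * (z j : L) ^ q₀ := by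
      refine (Finset.sum_subset (Finset.subset_univ _) fun j _ hj => ?_).symm
      have : (z j : L) = 0 := by
        by_contra h; exact hj (Finset.mem_filter.2 ⟨Finset.mem_univ _, h⟩)
      rw [this, zero_pow (by omega), mul_zero]
    intro h
    have := Valuation.map_sum_eq_of_lt P.1 (f := fun j => u j * (z j : L) ^ q₀) hj₀ fun i hi => by
      obtain ⟨hiS, hne⟩ := Finset.mem_sdiff.1 hi
      rw [Finset.mem_singleton] at hne
      rw [hval i hiS, hval j₀ hj₀, exp_lt_exp]
      exact lt_of_le_of_ne (hmax i hiS) fun h => hne (hinj hiS hj₀ h)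
    rw [← hES, h, map_zero, hval j₀ hj₀] at this
    exact exp_ne_zero this.symm
  -- zeros and poles of `E`
  let T := hfin.toFinset.erase P
  set D' : Divisor k L := D (m + n * q₀) - ∑ Q ∈ T, Finsupp.single Q 1 with hD'
  have hED : E ∈ FunFld.L D' := fun Q => by
    have hval : ∀ Q : Place k L, ((∑ Q' ∈ T, Finsupp.single Q' (1 : ℤ) : Divisor k L)) Q = if Q ∈ T then 1 else 0 := fun Q => by
      rw [Finsupp.finsetSum_apply]; simp [Finsupp.single_apply]
    rw [hD', Finsupp.sub_apply, hval]
    by_cases hQ : Q = P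
    · subst hQ
      rw [if_neg (Finset.notMem_erase _ _), sub_zero]
      refine Valuation.map_sum_le _ fun j _ => ?_
      have h1 := (z j).2 Q
      simp only [D, Finsupp.single_eq_same] at h1 ⊢
      rw [map_mul, map_pow, hu']
      refine (mul_le_mul' le_rfl (pow_le_pow_left' h1 q₀)).trans ?_
      rw [← exp_nsmul, ← exp_add, exp_le_exp, nsmul_eq_mul]
      have := (mem_poleSet.1 j.2).1
      push_cast
      nlinarith
    rw [show D (m + n * q₀) Q = 0 from Finsupp.single_eq_of_ne hQ, zero_sub]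
    have hzQ : ∀ j, Q.1 (z j : L) ≤ 1 := fun j => by
      have h1 := (z j).2 Q
      rwa [show D n Q = 0 from Finsupp.single_eq_of_ne hQ, exp_zero] at h1
    split_ifs with hT
    · obtain ⟨hQ1, hQτ⟩ := hfin.mem_toFinset.1 (Finset.mem_of_mem_erase hT)
      have hterm : ∀ j, Q.1 (u j ^ q₀ * ((z j : L) ^ (q₀ * q₀) - τ (z j : L))) < 1 := fun j => by
        obtain ⟨c, hc⟩ := exists_value Q hQ1 (hzQ j)
        set w := (z j : L) - algebraMap k L c
        have e : (z j : L) ^ (q₀ * q₀) - τ (z j : L) = w ^ (q₀ * q₀) - τ w := by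
          simp only [w, map_sub, hτ, map_pow, ← hq₀]
          rw [pow_mul ((z j : L) - _), hsub, hsub, ← pow_mul, ← pow_mul]
          ring
        rw [map_mul, e]
        refine lt_of_le_of_lt (mul_le_mul' ((map_pow Q.1 (u j) q₀).le.trans (pow_le_one' (hmem j Q hQ) _)) le_rfl) ?_
        rw [one_mul]
        refine Q.1.map_sub_lt ?_ (by rw [hQτ]; exact hc)
        rw [map_pow]
        exact pow_lt_one' hc (by positivity)
      have e : E ^ q₀ = ∑ j, u j ^ q₀ * ((z j : L) ^ (q₀ * q₀) - τ (z j : L)) := by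
        simp only [mul_sub, Finset.sum_sub_distrib, hz, sub_zero]
        rw [hE, hq₀, sum_pow_char_pow p a]
        simp only [← hq₀]
        refine Finset.sum_congr rfl fun j _ => ?_
        show (u j * (z j : L) ^ q₀) ^ q₀ = _
        rw [mul_pow, ← pow_mul]
      have h1 : Q.1 (E ^ q₀) < 1 := by
        rw [e]
        exact Valuation.map_sum_lt _ one_ne_zero fun j _ => hterm j
      rw [map_pow, pow_lt_one_iff (by omega)] at h1
      exact lt_one_le_exp h1
    · rw [neg_zero, exp_zero]
      exact Valuation.map_sum_le _ fun j _ => by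
        rw [map_mul, map_pow]; exact mul_le_one' (hmem j Q hQ) (pow_le_one' (hzQ j) _)
  have hnonneg : 0 ≤ D'.deg := by
    by_contra hneg
    have := L_eq_bot_of_deg_neg hL.1 (not_le.1 hneg)
    rw [this, Submodule.mem_bot] at hED
    exact hE0 hED
  have hdsum : (∑ Q ∈ T, Finsupp.single Q (1 : ℤ) : Divisor k L).deg = T.card := by
    rw [← degHom_apply, map_sum, Finset.sum_congr rfl (g := fun _ => (1 : ℤ)) fun Q hQ => by
      rw [degHom_apply, deg_single, (hfin.mem_toFinset.1 (Finset.mem_of_mem_erase hQ)).1, Nat.cast_one, mul_one]]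
    simp
  rw [hD', deg_sub, hdeg, hdsum] at hnonneg
  have hT : T.card + 1 = (fixSet k τ).ncard := by
    rw [Set.ncard_eq_toFinset_card _ hfin]
    exact Finset.card_erase_add_one (hfin.mem_toFinset.2 ⟨hP1, hPτ⟩)
  have h8 : T.card ≤ m + n * q₀ := by omega
  rw [← hT]
  have h9 : n * q₀ = q₀ * q₀ + 2 * g * q₀ := by rw [hn]; ring
  rw [add_one_mul (2 * g) q₀]
  omega

end Groth.Agent.Zeta
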