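/-
Twisted Frobenius fixed places of a Galois cover count the degree one places below.
-/
import Groth.Agent.L26.Zeta.ConstExt
import Groth.Agent.L26.Zeta.Stepanov
import Mathlib.FieldTheory.IntermediateField.Adjoin.Algebra
import Mathlib.FieldTheory.Finite.Basic
import Mathlib.FieldTheory.Normal.Defs

open WithZero IntermediateField
open scoped Pointwise

namespace Groth.Agent.Zeta

open FunFld Groth.Agent.FF

lemma mem_range_of_pow_card_eq {k E : Type*} [Field k] [Finite k] [Field E] [Algebra k E] {c : E}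
    (h : c ^ Nat.card k = c) : c ∈ Set.range (algebraMap k E) := by
  classical
  haveI : Fintype k := Fintype.ofFinite _
  rw [Nat.card_eq_fintype_card] at h
  let f : Polynomial E := Polynomial.X ^ Fintype.card k - Polynomial.X
  have hf0 : f ≠ 0 := FiniteField.X_pow_card_sub_X_ne_zero _ Fintype.one_lt_card
  have hroot : ∀ a : k, algebraMap k E a ∈ f.roots.toFinset := fun a => by
    rw [Multiset.mem_toFinset, Polynomial.mem_roots hf0]
    simp [f, Polynomial.IsRoot, ← map_pow, FiniteField.pow_card]
  have heq : Finset.univ.image (algebraMap k E) = f.roots.toFinset := by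
    refine Finset.eq_of_subset_of_card_le (Finset.image_subset_iff.2 fun a _ => hroot a) ?_
    rw [Finset.card_image_of_injective _ (algebraMap k E).injective, Finset.card_univ]
    refine (Multiset.toFinset_card_le _).trans ((Polynomial.card_roots' f).trans ?_)
    rw [FiniteField.X_pow_card_sub_X_natDegree_eq _ Fintype.one_lt_card]
  have hc : c ∈ f.roots.toFinset := by
    rw [Multiset.mem_toFinset, Polynomial.mem_roots hf0]
    simp [f, Polynomial.IsRoot, h]
  obtain ⟨a, -, ha⟩ := Finset.mem_image.1 (heq ▸ hc : c ∈ Finset.univ.image (algebraMap k E))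
  exact ⟨a, ha⟩

variable (k K k' L : Type*) [Field k] [Field K] [Field k'] [Field L] [Algebra k K] [Algebra k k']
  [Algebra K L] [Algebra k' L] [Algebra k L] [IsScalarTower k K L] [IsScalarTower k k' L]

/-- The compositum `K · k'` inside `L`. -/
abbrev comp : IntermediateField K L := IntermediateField.adjoin K (Set.range (algebraMap k' L))

noncomputable instance compAlg : Algebra k' (comp K k' L) :=
  ((algebraMap k' L).codRestrict (comp K k' L) fun c => subset_adjoin K _ ⟨c, rfl⟩).toAlgebra

instance compTower : IsScalarTower k' (comp K k' L) L := IsScalarTower.of_algebraMap_eq fun _ => rfl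

instance compTower' : IsScalarTower k k' (comp K k' L) :=
  IsScalarTower.of_algebraMap_eq fun c => Subtype.ext (by
    show algebraMap k L c = algebraMap k' L (algebraMap k k' c)
    exact IsScalarTower.algebraMap_apply k k' L c)

variable {k K k' L}

theorem cext_comp [Finite k] [FiniteDimensional k k'] (hK : IsFunctionField k K) :
    CExt k K k' (comp K k' L) := by
  classical
  haveI : Finite k' := Module.finite_of_finite k
  have hint : ∀ x ∈ Set.range (algebraMap k' L), IsIntegral K x := by
    rintro _ ⟨c, rfl⟩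
    exact ((Algebra.IsIntegral.isIntegral (R := k) c).map (IsScalarTower.toAlgHom k k' L)).tower_top
  obtain ⟨γ, hγ⟩ := Field.exists_primitive_element k k'
  have hγint : IsIntegral k γ := Algebra.IsIntegral.isIntegral γ
  have hγL : IsIntegral k (algebraMap k' L γ) := hγint.map (IsScalarTower.toAlgHom k k' L)
  have he : comp K k' L = K⟮algebraMap k' L γ⟯ := by
    refine le_antisymm (adjoin_le_iff.2 ?_) (adjoin_simple_le_iff.2 (subset_adjoin K _ ⟨γ, rfl⟩))
    rintro _ ⟨c, rfl⟩
    have h1 : (k⟮γ⟯).map (IsScalarTower.toAlgHom k k' L) ≤ (K⟮algebraMap k' L γ⟯).restrictScalars k := by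
      rw [adjoin_map, Set.image_singleton, adjoin_simple_le_iff]
      exact mem_adjoin_simple_self K (algebraMap k' L γ)
    exact h1 ⟨c, hγ ▸ IntermediateField.mem_top, rfl⟩
  refine ⟨inferInstance, ?_, ?_⟩
  · rw [eq_top_iff]
    rintro ⟨z, hz⟩ -
    have h2 : z ∈ (Algebra.adjoin K (Set.range (algebraMap k' (comp K k' L)))).map (comp K k' L).val := by
      rw [AlgHom.map_adjoin, ← Set.range_comp]
      show z ∈ Algebra.adjoin K (Set.range (algebraMap k' L))
      rw [← adjoin_toSubalgebra_of_isAlgebraic (fun x hx => (hint x hx).isAlgebraic)]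
      exact hz
    obtain ⟨w, hw, hwz⟩ := Subalgebra.mem_map.1 h2
    exact (Subtype.ext hwz : w = ⟨z, hz⟩) ▸ hw
  · have hirr := irreducible_map hK.2 (minpoly.monic hγint) (minpoly.irreducible hγint)
    have hmin : (minpoly k γ).map (algebraMap k K) = minpoly K (algebraMap k' L γ) :=
      minpoly.eq_of_irreducible_of_monic hirr
        (by rw [Polynomial.aeval_map_algebraMap, Polynomial.aeval_algebraMap_apply, minpoly.aeval, map_zero])
        ((minpoly.monic hγint).map _)
    rw [he, IntermediateField.adjoin.finrank hγL.tower_top, ← hmin, Polynomial.natDegree_map,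
      ← IntermediateField.adjoin.finrank hγint, hγ, IntermediateField.finrank_top']

/-- Places over `k'` are places over `k`. -/
def plRes [Algebra.IsAlgebraic k k'] : Place k' L ≃ Place k L where
  toFun Q := ⟨Q.1, fun c => by
    rw [IsScalarTower.algebraMap_apply k k' L]; exact Q.2.1 _, Q.2.2⟩
  invFun Q := ⟨Q.1, fun c => by
    rcases eq_or_ne c 0 with rfl | hc
    · simp
    · refine (ord_const_zero Q ?_ ((map_ne_zero _).2 hc)).le
      exact (Algebra.IsAlgebraic.isAlgebraic (R := k) c).algebraMap, Q.2.2⟩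
  left_inv _ := rfl
  right_inv _ := rfl

lemma deg_plRes [Algebra.IsAlgebraic k k'] (Q : Place k' L) :
    (plRes (k := k) Q).deg = Module.finrank k k' * Q.deg := by
  letI : Algebra k (IsLocalRing.ResidueField Q.O) := Place.algRes (plRes (k := k) Q)
  refine finrank_tower (A := IsLocalRing.ResidueField Q.O) fun c => ?_
  show IsLocalRing.residue Q.O _ = IsLocalRing.residue Q.O _
  congr 1
  apply Subtype.ext
  exact IsScalarTower.algebraMap_apply k k' L c

variable [Finite k] [FiniteDimensional k k'] [FiniteDimensional K L]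

omit [FiniteDimensional k k'] in
/-- A degree one place fixed by a twisted Frobenius lies over a place of degree one. -/
lemma deg_below_eq_one (hK : IsFF k K) {ρ : L → L} {Q : Place k' L} (hQ : Q ∈ fixSet k' ρ)
    (hfix : ∀ x, ρ (algebraMap K L x) = algebraMap K L x)
    (hfrob : ∀ z c, ρ (z - algebraMap k' L c) = ρ z - algebraMap k' L (c ^ Nat.card k))
    {P : Place k K} (hP : ∀ x, Q.1 (algebraMap K L x) < 1 ↔ P.1 x < 1)
    (hP' : ∀ x, Q.1 (algebraMap K L x) ≤ 1 ↔ P.1 x ≤ 1) : P.deg = 1 := by
  haveI : Module.Finite k (IsLocalRing.ResidueField P.O) := finite_residueField hK P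
  have hs : Function.Surjective (algebraMap k (IsLocalRing.ResidueField P.O)) := fun r => by
    obtain ⟨⟨z, hz⟩, rfl⟩ := Ideal.Quotient.mk_surjective r
    obtain ⟨c, hc⟩ := exists_value Q hQ.1 ((hP' z).2 hz)
    have h2 : Q.1 (ρ (algebraMap K L z - algebraMap k' L c)) < 1 := by rw [hQ.2]; exact hc
    rw [hfrob, hfix] at h2
    have h3 := Q.1.map_sub_lt h2 hc
    rw [sub_sub_sub_cancel_left, ← map_sub] at h3
    have h4 : c ^ Nat.card k = c := by
      by_contra hne
      rw [val_const Q (sub_ne_zero.2 fun h => hne h.symm)] at h3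
      exact lt_irrefl _ h3
    obtain ⟨a, rfl⟩ := mem_range_of_pow_card_eq h4
    refine ⟨a, ?_⟩
    have h5 : P.1 (z - algebraMap k K a) < 1 := by
      rw [← hP, map_sub, ← IsScalarTower.algebraMap_apply, IsScalarTower.algebraMap_apply k k' L]
      exact hc
    have h6 : resMap P ((⟨z, hz⟩ : P.O) - algebraMap k P.O a) = 0 := (residue_eq_zero P _).2 h5
    rw [map_sub, AlgHom.commutes, sub_eq_zero] at h6
    exact h6.symm
  exact ((LinearEquiv.ofBijective (Algebra.linearMap k (IsLocalRing.ResidueField P.O))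
    ⟨(algebraMap k (IsLocalRing.ResidueField P.O)).injective, hs⟩).finrank_eq).symm.trans (Module.finrank_self k)

theorem count_eq [IsGalois K L] (hK : IsFunctionField k K)
    (hdeg : ∀ (Q : Place k' L) (P : Place k K), IsOver (plRes (k := k) Q) P → P.deg = 1 → Q.deg = 1)
    (S : Finset (L ≃+* L))
    (hS : ∀ ρ, ρ ∈ S ↔ (∀ x, ρ (algebraMap K L x) = algebraMap K L x) ∧
      ∀ c, ρ (algebraMap k' L c) = algebraMap k' L (c ^ Nat.card k)) :
    S.Nonempty ∧ ∑ ρ ∈ S, (fixSet k' ρ).ncard = S.card * Nat.card {P : Place k K // P.deg = 1} := by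
  classical
  have C := cext_comp (k' := k') (L := L) hK
  haveI := C.finK
  have hK' := C.isFunctionField hK
  haveI : Finite k' := Module.finite_of_finite k
  haveI : Fintype k := Fintype.ofFinite _
  have hK'k : IsFF k (comp K k' L) := isFF_ext hK.1
  have hL : IsFF k L := isFF_ext hK.1
  obtain ⟨hgal, -⟩ := C.galois_and_surj
  haveI : IsScalarTower k (comp K k' L) L := IsScalarTower.of_algebraMap_eq fun _ => rfl
  -- a lift of Frobenius
  let φ : k' ≃ₐ[k] k' := FiniteField.frobeniusAlgEquivOfAlgebraic k k'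
  have hφ : ∀ c, φ c = c ^ Nat.card k := fun c => by
    rw [Nat.card_eq_fintype_card]; rfl
  let τ : L ≃ₐ[K] L := (C.aut φ).liftNormal L
  have hτc : ∀ c, τ (algebraMap k' L c) = algebraMap k' L (c ^ Nat.card k) := fun c => by
    rw [IsScalarTower.algebraMap_apply k' (comp K k' L) L, AlgEquiv.liftNormal_commutes, C.aut_const, hφ,
      ← IsScalarTower.algebraMap_apply]
  set H := L ≃ₐ[comp K k' L] L
  let e : H → (L ≃+* L) := fun h => ((h.restrictScalars K : L ≃ₐ[K] L) * τ).toRingEquiv
  have he_apply : ∀ h z, e h z = h (τ z) := fun _ _ => rfl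
  have he : Function.Injective e := fun h h' heq => AlgEquiv.ext fun z => by
    obtain ⟨w, rfl⟩ := τ.surjective z
    rw [← he_apply, ← he_apply, heq]
  have hconst : ∀ (h : H) (c : k'), h (algebraMap k' L c) = algebraMap k' L c := fun h c => by
    rw [IsScalarTower.algebraMap_apply k' (comp K k' L) L, AlgEquiv.commutes]
  have hSe : S = Finset.univ.image e := by
    ext ρ
    rw [hS, Finset.mem_image]
    constructor
    · rintro ⟨h1, h2⟩
      let ρ' : L ≃ₐ[K] L := AlgEquiv.ofRingEquiv (f := ρ) h1
      let δ : L ≃ₐ[K] L := ρ' * τ⁻¹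
      have hδ : ∀ z : comp K k' L, δ z = z := by
        have hle : comp K k' L ≤ IntermediateField.fixedField (Subgroup.zpowers δ) := by
          rw [adjoin_le_iff]
          rintro _ ⟨c, rfl⟩ ⟨σ, hσ⟩
          obtain ⟨n, rfl⟩ := Subgroup.mem_zpowers_iff.1 hσ
          have h0 : δ (algebraMap k' L c) = algebraMap k' L c := by
            obtain ⟨d, hd⟩ := φ.surjective c
            rw [hφ] at hd
            show ρ' (τ⁻¹ (algebraMap k' L c)) = _
            rw [AlgEquiv.aut_inv, show τ.symm (algebraMap k' L c) = algebraMap k' L d by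
              rw [AlgEquiv.symm_apply_eq, hτc, hd]]
            exact (h2 d).trans (by rw [hd])
          have : δ ∈ MulAction.stabilizer (L ≃ₐ[K] L) (algebraMap k' L c) := h0
          exact Subgroup.zpow_mem _ this n
        exact fun z => hle z.2 ⟨δ, Subgroup.mem_zpowers δ⟩
      refine ⟨AlgEquiv.ofRingEquiv (f := δ.toRingEquiv) hδ, Finset.mem_univ _, RingEquiv.ext fun z => ?_⟩
      rw [he_apply]
      show ρ' (τ⁻¹ (τ z)) = ρ z
      rw [AlgEquiv.aut_inv, AlgEquiv.symm_apply_apply]
      rfl
    · rintro ⟨h, -, rfl⟩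
      exact ⟨fun x => by rw [he_apply, AlgEquiv.commutes, IsScalarTower.algebraMap_apply K (comp K k' L) L,
          AlgEquiv.commutes], fun c => by rw [he_apply, hτc, hconst]⟩
  refine ⟨⟨e 1, hSe ▸ Finset.mem_image_of_mem e (Finset.mem_univ _)⟩, ?_⟩
  rw [hSe, Finset.sum_image he.injOn, Finset.card_image_of_injective _ he, Finset.card_univ]
  set N := Nat.card {P : Place k K // P.deg = 1}
  have hS1 : {P : Place k K | P.deg = 1}.Finite :=
    (finite_places_deg_le hK.1 1).subset fun _ hP => le_of_eq hP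
  set P1 := hS1.toFinset
  have hP1 : P1.card = N := (Nat.subtype_card P1 fun _ => hS1.mem_toFinset).symm
  let Y : Place k K → Finset (Place k L) := fun P => (finite_over (K' := L) hK.1 P).toFinset
  have hY : ∀ P Q, Q ∈ Y P ↔ IsOver Q P := fun P Q => (finite_over (K' := L) hK.1 P).mem_toFinset
  have hfix : ∀ (h : H) (Q : Place k L), (∀ z, Q.1 (e h z) = Q.1 z) ↔
      galPlace h (galPlace τ Q) = Q := fun h Q => by
    constructor
    · intro hz
      refine Subtype.ext (Valuation.ext fun z => ?_)
      rw [galPlace_apply, galPlace_apply]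
      conv_rhs => rw [show z = e h (τ.symm (h.symm z)) by
        rw [he_apply, AlgEquiv.apply_symm_apply]; exact (AlgEquiv.apply_symm_apply h z).symm]
      rw [hz]
    · intro hQ z
      conv_lhs => rw [← hQ]
      rw [galPlace_apply, galPlace_apply, he_apply]
      congr 1
      exact (congrArg τ.symm (AlgEquiv.symm_apply_apply h (τ z))).trans (τ.symm_apply_apply z)
  -- split the fixed places along the places below
  have hsplit : ∀ h : H, (fixSet k' (e h)).ncard = ∑ P ∈ P1, ((Y P).filter fun Q => ∀ z, Q.1 (e h z) = Q.1 z).card := fun h => by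
    rw [← Finset.card_biUnion fun P _ P' _ hne => Finset.disjoint_left.2 fun Q hQ hQ' => hne (by
      obtain ⟨_, he1⟩ := (hY P Q).1 (Finset.mem_filter.1 hQ).1
      obtain ⟨_, he2⟩ := (hY P' Q).1 (Finset.mem_filter.1 hQ').1
      exact (he1.unique he2).1), ← Set.ncard_coe_finset,
      ← Set.ncard_image_of_injective _ (plRes (k := k) (k' := k') (L := L)).injective]
    congr 1
    ext Q
    rw [Set.mem_image, Finset.coe_biUnion, Set.mem_iUnion₂]
    constructor
    · rintro ⟨Q', hQ', rfl⟩
      obtain ⟨P, e', he'⟩ := exists_below (K' := L) hK.1 (plRes (k := k) Q')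
      refine ⟨P, hS1.mem_toFinset.2 (deg_below_eq_one hK.1 hQ' (fun x => ?_) (fun z c => ?_)
        he'.lt_one_iff he'.le_one_iff), Finset.mem_filter.2 ⟨(hY _ _).2 ⟨e', he'⟩, hQ'.2⟩⟩
      · rw [he_apply, AlgEquiv.commutes, IsScalarTower.algebraMap_apply K (comp K k' L) L, AlgEquiv.commutes]
      · rw [map_sub, he_apply h (algebraMap k' L c), hτc, hconst]
    · rintro ⟨P, hP, hQ⟩
      obtain ⟨hQP, hQfix⟩ := Finset.mem_filter.1 hQ
      refine ⟨(plRes (k := k) (k' := k')).symm Q, ⟨?_, hQfix⟩, Equiv.apply_symm_apply _ _⟩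
      refine hdeg _ P ?_ (hS1.mem_toFinset.1 hP)
      rw [Equiv.apply_symm_apply]
      exact (hY _ _).1 hQP
  simp only [hsplit]
  rw [Finset.sum_comm, Finset.sum_congr rfl (g := fun _ => Fintype.card H), Finset.sum_const, smul_eq_mul,
    hP1]
  · ring
  intro P hP
  rw [Finset.sum_congr rfl fun h _ => Finset.card_filter _ _, Finset.sum_comm]
  have hdP : P.deg = 1 := hS1.mem_toFinset.1 hP
  obtain ⟨hcard, -⟩ := C.split hK P
  rw [hdP, Nat.gcd_one_left, Nat.card_eq_one_iff_unique] at hcard
  obtain ⟨⟨P', hPo'⟩⟩ := hcard.2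
  have huniq : ∀ Q : Place k L, IsOver Q P → IsOver Q P' := fun Q ⟨e1, he1⟩ => by
    obtain ⟨R, e2, he2⟩ := exists_below (K' := L) hK'k Q
    obtain ⟨P0, e3, he3⟩ := exists_below (K' := comp K k' L) hK.1 R
    have h1 : IsOverWith Q P0 (e3 * e2) := fun x => by
      rw [IsScalarTower.algebraMap_apply K (comp K k' L) L, he2, he3, ← pow_mul]
    obtain rfl := (h1.unique he1).1
    have hR := @Subsingleton.elim _ hcard.1 ⟨R, _, he3⟩ ⟨P', hPo'⟩
    obtain rfl : R = P' := congrArg Subtype.val hR
    exact ⟨e2, he2⟩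
  have hover : ∀ Q : Place k L, IsOver Q P' → IsOver Q P := fun Q ⟨e2, he2⟩ => by
    obtain ⟨e3, he3⟩ := hPo'
    exact ⟨e3 * e2, fun x => by
      rw [IsScalarTower.algebraMap_apply K (comp K k' L) L, he2, he3, ← pow_mul]⟩
  have key : ∀ Q ∈ Y P, (Y P).card * (Finset.univ.filter fun h : H => ∀ z, Q.1 (e h z) = Q.1 z).card =
      Fintype.card H := fun Q hQ => by
    have hQP := (hY _ _).1 hQ
    have hQ' := huniq Q hQP
    obtain ⟨e1, he1⟩ := hQP
    have hτQ := huniq _ ⟨e1, galPlace_isOverWith τ he1⟩
    obtain ⟨h0, hh0⟩ := exists_galPlace_eq hK'k hτQ hQ'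
    have h1 := card_places_mul_card_decomposition hK'k (Q := Q) hQ'
    have h2 : Nat.card {Q' : Place k L // IsOver Q' P'} = (Y P).card :=
      Nat.subtype_card _ fun R => by rw [hY]; exact ⟨huniq R, hover R⟩
    have h3 : Nat.card ((Q.O).decompositionSubgroup (comp K k' L)) =
        (Finset.univ.filter fun h : H => ∀ z, Q.1 (e h z) = Q.1 z).card := by
      have hg : ∀ (a b : H) (R : Place k L), galPlace (a * b) R = galPlace a (galPlace b R) := fun a b R =>
        Subtype.ext (Valuation.ext fun z => rfl)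
      have hdec : ∀ σ : H, σ ∈ (Q.O).decompositionSubgroup (comp K k' L) ↔ galPlace σ Q = Q := fun σ => by
        rw [ValuationSubring.decompositionSubgroup, MulAction.mem_stabilizer_iff, ← galPlace_O]
        exact ⟨place_ext_O, congrArg Place.O⟩
      rw [← Nat.card_eq_finsetCard]
      refine Nat.card_congr ((Equiv.mulRight h0).subtypeEquiv fun σ => ?_)
      show σ ∈ _ ↔ σ * h0 ∈ _
      rw [hdec, Finset.mem_filter, hfix, hg, hh0]
      simp
    rw [h2, h3] at h1
    rw [h1, ← IsGalois.card_aut_eq_finrank, Nat.card_eq_fintype_card]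
  have hne : (Y P).Nonempty := by
    obtain ⟨hfin, hsum⟩ := finite_over_and_sum (K' := L) hK P
    by_contra h
    rw [Finset.not_nonempty_iff_eq_empty] at h
    have h1 := hsum (Y P) (hY P)
    rw [h, Finset.sum_empty, hdP, mul_one] at h1
    exact Module.finrank_pos.ne' h1.symm
  refine Nat.eq_of_mul_eq_mul_left hne.card_pos ?_
  rw [Finset.mul_sum, Finset.sum_congr rfl (g := fun _ => Fintype.card H) fun Q hQ => by
      rw [← Finset.card_filter]; convert key Q hQ,
    Finset.sum_const, smul_eq_mul]

end Groth.Agent.Zeta
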