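/-
The Riemann hypothesis for function fields over finite fields.
-/
import Groth.Agent.L26.Zeta.LogDer
import Groth.Agent.L26.Zeta.Twist
import Groth.Agent.L26.Res.Sep
import Mathlib.FieldTheory.AlgebraicClosure
import Mathlib.FieldTheory.IsSepClosed
import Mathlib.LinearAlgebra.FreeModule.Finite.Matrix
import Mathlib.Analysis.Normed.Group.Basic
import Mathlib.Topology.MetricSpace.ProperSpace

open WithZero IntermediateField Filter Topology

namespace Groth.Agent.Zeta

open FunFld Groth.Agent.FF

/-- Perfect constants: a separating element. -/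
theorem exists_separating_perfect {k K : Type*} [Field k] [Field K] [Algebra k K] [PerfectField k]
    (hK : IsFF k K) : ∃ x : K, Transcendental k x ∧ Algebra.IsSeparable k⟮x⟯ K := by
  obtain ⟨x, hx, hfin⟩ := id hK
  have := Groth.Agent.Res.essFiniteType hK
  obtain ⟨s, hs, hsep⟩ := exists_isTranscendenceBasis_and_isSeparable_of_perfectField (k := k) (K := K)
  have hx1 : IsTranscendenceBasis k ![x] := by
    refine (algebraicIndependent_iff_transcendental.2 hx).isTranscendenceBasis_iff_isAlgebraic.2 ?_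
    rw [show Set.range ![x] = {x} by simp, ← IntermediateField.isAlgebraic_adjoin_iff_top]
    exact Algebra.IsAlgebraic.of_finite _ _
  have hcard := IsTranscendenceBasis.lift_cardinalMk_eq hs hx1
  simp only [Cardinal.mk_fintype, Cardinal.lift_natCast, Nat.cast_inj, Fintype.card_coe,
    Fintype.card_fin] at hcard
  obtain ⟨y, rfl⟩ := Finset.card_eq_one.1 hcard
  refine ⟨y, (algebraicIndependent_singleton_iff (⟨y, Finset.mem_singleton_self y⟩ :
    ({y} : Finset K))).1 hs.1, ?_⟩
  rwa [Finset.coe_singleton] at hsep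

section cext

variable {k K k' K' : Type*} [Field k] [Field K] [Algebra k K] [Field k'] [Field K'] [Algebra k k']
  [Algebra K K'] [Algebra k' K'] [Algebra k K'] [IsScalarTower k K K'] [IsScalarTower k k' K'] [Finite k]

/-- The genus does not change under constant extensions. -/
theorem genus_cext (C : CExt k K k' K') (hK : IsFunctionField k K) : genus k' K' = genus k K := by
  classical
  haveI := C.fin
  haveI : Finite k' := Module.finite_of_finite k
  have hK' := C.isFunctionField hK
  obtain ⟨α, -, hα, hpair⟩ := exists_recip_roots hK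
  have h0 : PowerSeries.map (Int.castRingHom ℂ) (numerZ k K) =
      ((∏ i, (1 - Polynomial.C (α i) * Polynomial.X) : Polynomial ℂ) : PowerSeries ℂ) := by
    rw [← hα, numerC, ← numerP_eq hK, ← Polynomial.polynomial_map_coe]
  have h1 := numerZ_cext C hK α h0
  rw [← numerP_eq hK', ← Polynomial.polynomial_map_coe, ← numerC] at h1
  have h2 := congrArg Polynomial.natDegree (Polynomial.coe_injective ℂ h1)
  have hne : ∀ i, α i ^ Module.finrank k k' ≠ 0 := fun i => pow_ne_zero _ fun h => by
    have := hpair i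
    rw [h, zero_mul] at this
    exact Nat.cast_ne_zero.2 (Nat.card_pos (α := k)).ne' this.symm
  have hlin : ∀ i, (1 - Polynomial.C (α i ^ Module.finrank k k') * Polynomial.X).natDegree = 1 := fun i => by
    rw [show (1 : Polynomial ℂ) - Polynomial.C (α i ^ Module.finrank k k') * Polynomial.X =
      Polynomial.C (-(α i ^ Module.finrank k k')) * Polynomial.X + Polynomial.C 1 by
      rw [map_neg, map_one]; ring]
    exact Polynomial.natDegree_linear (neg_ne_zero.2 (hne i))
  rw [natDegree_numerC hK', Polynomial.natDegree_prod _ _ fun i _ h => by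
    have := hlin i; rw [h, Polynomial.natDegree_zero] at this; omega,
    Finset.sum_congr rfl fun i _ => hlin i, Finset.sum_const, Finset.card_univ, Fintype.card_fin,
    smul_eq_mul, mul_one] at h2
  omega

end cext

/-- `L = M ⊗ k'` is Galois over `F` when `M` is. -/
theorem isGalois_cext {k F M k' L : Type*} [Field k] [Finite k] [Field F] [Field M] [Field k'] [Field L]
    [Algebra k F] [Algebra k M] [Algebra F M] [IsScalarTower k F M] [Algebra k k'] [Algebra M L]
    [Algebra k' L] [Algebra k L] [IsScalarTower k M L] [IsScalarTower k k' L] [Algebra F L]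
    [IsScalarTower F M L] [FiniteDimensional F M] [IsGalois F M] (C : CExt k M k' L) : IsGalois F L := by
  classical
  haveI := C.fin
  haveI := C.finK
  haveI : Finite k' := Module.finite_of_finite k
  haveI : FiniteDimensional F L := FiniteDimensional.trans F M L
  have eM : ∀ x : M, C.psiE (x ⊗ₜ[k] (1 : k')) = algebraMap M L x := fun x => by simp [CExt.psiE, psi]
  have ek : ∀ c : k', C.psiE ((1 : M) ⊗ₜ[k] c) = algebraMap k' L c := fun c => by simp [CExt.psiE, psi]
  let ext : Gal(M/F) × Gal(k'/k) → Gal(L/F) := fun p => AlgEquiv.ofRingEquiv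
    (f := C.psiE.symm.toRingEquiv.trans
      ((Algebra.TensorProduct.congr (p.1.restrictScalars k) p.2).toRingEquiv.trans C.psiE.toRingEquiv))
    fun x => by
      show C.psiE (Algebra.TensorProduct.congr (p.1.restrictScalars k) p.2 (C.psiE.symm (algebraMap F L x))) = _
      rw [IsScalarTower.algebraMap_apply F M L, ← eM, AlgEquiv.symm_apply_apply,
        Algebra.TensorProduct.congr_apply, Algebra.TensorProduct.map_tmul]
      show C.psiE (p.1 (algebraMap F M x) ⊗ₜ[k] p.2 1) = _
      rw [p.1.commutes, map_one]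
  have happ : ∀ p z, ext p z = C.psiE (Algebra.TensorProduct.congr (p.1.restrictScalars k) p.2 (C.psiE.symm z)) :=
    fun _ _ => rfl
  have hinj : Function.Injective ext := fun p p' h => by
    refine Prod.ext (AlgEquiv.ext fun x => (algebraMap M L).injective ?_) (AlgEquiv.ext fun c =>
      (algebraMap k' L).injective ?_)
    · have := congrArg (fun e : Gal(L/F) => e (algebraMap M L x)) h
      simp only [happ, ← eM, AlgEquiv.symm_apply_apply, Algebra.TensorProduct.congr_apply,
        Algebra.TensorProduct.map_tmul] at this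
      rw [← eM, ← eM]
      simpa using this
    · have := congrArg (fun e : Gal(L/F) => e (algebraMap k' L c)) h
      simp only [happ, ← ek, AlgEquiv.symm_apply_apply, Algebra.TensorProduct.congr_apply,
        Algebra.TensorProduct.map_tmul] at this
      rw [← ek, ← ek]
      simpa using this
  refine IsGalois.of_card_aut_eq_finrank F L (le_antisymm
    (by rw [Nat.card_eq_fintype_card]; exact AlgEquiv.card_le) ?_)
  calc Module.finrank F L = Module.finrank F M * Module.finrank M L := (Module.finrank_mul_finrank F M L).symm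
    _ = Nat.card Gal(M/F) * Nat.card Gal(k'/k) := by
      rw [IsGalois.card_aut_eq_finrank, IsGalois.card_aut_eq_finrank, C.rank]
    _ = Nat.card (Gal(M/F) × Gal(k'/k)) := (Nat.card_prod _ _).symm
    _ ≤ _ := Nat.card_le_card_of_injective ext hinj

/-- Places over a degree one place split completely in a large constant extension. -/
theorem deg_one_top {k K M k'' k' L : Type*} [Field k] [Finite k] [Field K] [Field M] [Field k''] [Field k']
    [Field L] [Algebra k K] [Algebra k M] [Algebra K M] [IsScalarTower k K M] [FiniteDimensional K M]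
    [IsGalois K M] [Algebra k k''] [Algebra k k'] [Algebra M L] [Algebra K L] [IsScalarTower K M L]
    [Algebra k' L] [Algebra k L] [IsScalarTower k M L] [IsScalarTower k k' L] [Algebra k'' L]
    [Algebra k'' k'] [IsScalarTower k'' k' L]
    [IsScalarTower k k'' L] [IsScalarTower k K L] [FiniteDimensional k k''] [FiniteDimensional k'' k']
    (C : CExt k M k' L) (hM : IsFunctionField k M) (hK : IsFunctionField k K)
    (hJ : Module.finrank K M * Module.finrank k k'' ∣ Module.finrank k k')
    (Q : Place k' L) (P : Place k'' (comp K k'' L)) (h : IsOver (plRes (k := k'') Q) P) (hP : P.deg = 1) :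
    Q.deg = 1 := by
  haveI := C.fin
  haveI := C.finK
  haveI : FiniteDimensional K L := FiniteDimensional.trans K M L
  have C'' := cext_comp (k' := k'') (L := L) hK
  haveI := C''.finK
  set J := Module.finrank k k'
  set j := Module.finrank k k''
  obtain ⟨e1, he1⟩ := h
  set Pk := C''.placeEquiv P with hPk
  obtain ⟨PK, e2, he2⟩ := exists_below (K' := comp K k'' L) hK.1 Pk
  -- `deg P_K ∣ j`
  have hd : PK.deg ∣ j := by
    have h1 := ((C''.split hK PK).2 Pk ⟨e2, he2⟩).2
    rw [hPk, C''.deg_placeEquiv, hP, mul_one] at h1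
    have h2 := Nat.eq_of_mul_eq_mul_left C''.rpos h1
    rw [← h2]
    exact Nat.gcd_dvd_right _ _
  set Qk := C.placeEquiv Q with hQk
  obtain ⟨QM, e3, he3⟩ := exists_below (K' := L) hM.1 Qk
  obtain ⟨PK', e4, he4⟩ := exists_below (K' := M) hK.1 QM
  have hA : IsOverWith Qk PK (e2 * e1) := fun x => by
    show Q.1 (algebraMap K L x) = _
    rw [IsScalarTower.algebraMap_apply K (comp K k'' L) L, pow_mul, ← he2 x]
    exact he1 _
  have hB : IsOverWith Qk PK' (e4 * e3) := fun x => by
    rw [IsScalarTower.algebraMap_apply K M L, he3, he4, ← pow_mul]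
  obtain rfl := (hA.unique hB).1
  -- `deg Q_M ∣ [M : K] deg P_K`
  have hdM : QM.deg ∣ J := by
    have h1 := card_decomposition_mul_deg hK he4
    obtain ⟨m, hm⟩ := Subgroup.card_subgroup_dvd_card (QM.O.decompositionSubgroup K)
    rw [IsGalois.card_aut_eq_finrank] at hm
    refine dvd_trans ?_ ((Nat.mul_dvd_mul_left _ hd).trans hJ)
    rw [hm, mul_right_comm, h1, mul_assoc, mul_comm QM.deg, ← mul_assoc]
    exact dvd_mul_left _ _
  have h2 := ((C.split hM QM).2 Qk ⟨e3, he3⟩).2
  rw [hQk, C.deg_placeEquiv, Nat.gcd_eq_left hdM, mul_assoc] at h2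
  have h3 := Nat.eq_of_mul_eq_mul_left C.rpos h2
  exact Nat.eq_of_mul_eq_mul_right (one_le_deg hM.1 QM) (h3.trans (one_mul _).symm)

/-- Membership in the twisted coset. -/
lemma mem_twist {k K k'' k' L : Type*} [Field k] [Finite k] [Field K] [Field k''] [Field k'] [Field L]
    [Algebra K L] [Algebra k'' L] [Algebra k' L] [Algebra k'' k'] [IsScalarTower k'' k' L]
    [Algebra k k''] [FiniteDimensional k k'']
    {q : ℕ} (hq : Nat.card k'' = q) (ρ : L ≃+* L) :
    ((∀ x : K, ρ (algebraMap K L x) = algebraMap K L x) ∧ ∀ c : k', ρ (algebraMap k' L c) = algebraMap k' L (c ^ q)) ↔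
    ((∀ x : comp K k'' L, ρ (algebraMap (comp K k'' L) L x) = algebraMap (comp K k'' L) L x) ∧
      ∀ c : k', ρ (algebraMap k' L c) = algebraMap k' L (c ^ Nat.card k'')) := by
  haveI : Finite k'' := Module.finite_of_finite k
  haveI : Fintype k'' := Fintype.ofFinite _
  rw [hq]
  refine ⟨fun ⟨h1, h2⟩ => ⟨fun x => ?_, h2⟩, fun ⟨h1, h2⟩ => ⟨fun x => h1 (algebraMap K _ x), h2⟩⟩
  let ρ' : L ≃ₐ[K] L := AlgEquiv.ofRingEquiv (f := ρ) h1
  have hle : comp K k'' L ≤ IntermediateField.fixedField (Subgroup.zpowers ρ') := by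
    rw [adjoin_le_iff]
    rintro _ ⟨c, rfl⟩ ⟨σ, hσ⟩
    obtain ⟨n, rfl⟩ := Subgroup.mem_zpowers_iff.1 hσ
    have h0 : ρ' (algebraMap k'' L c) = algebraMap k'' L c := by
      show ρ (algebraMap k'' L c) = _
      rw [IsScalarTower.algebraMap_apply k'' k' L, h2, ← map_pow, ← hq, Nat.card_eq_fintype_card,
        FiniteField.pow_card]
    have : ρ' ∈ MulAction.stabilizer (L ≃ₐ[K] L) (algebraMap k'' L c) := h0
    exact Subgroup.zpow_mem _ this n
  exact hle x.2 ⟨ρ', Subgroup.mem_zpowers ρ'⟩

universe u v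

/-- The key estimate. -/
theorem rh_core {k : Type u} {F : Type*} {K : Type*} {M : Type v} [Field k] [Finite k] [Field F] [Field K] [Field M]
    [Algebra k F] [Algebra k K] [Algebra k M] [Algebra F K] [Algebra F M] [Algebra K M]
    [IsScalarTower k F M] [IsScalarTower k K M] [IsScalarTower F K M]
    [FiniteDimensional F M] [FiniteDimensional K M] [IsGalois F M] [IsGalois K M]
    (hF : IsFunctionField k F) (hK : IsFunctionField k K) (hM : IsFunctionField k M) (hF0 : genus k F = 0)
    {ι : Type*} [Fintype ι] (α : ι → ℂ)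
    (hα : PowerSeries.map (Int.castRingHom ℂ) (numerZ k K) =
      ((∏ i, (1 - Polynomial.C (α i) * Polynomial.X) : Polynomial ℂ) : PowerSeries ℂ)) :
    ∀ i : ℕ, (genus k M + 1) ^ 2 ≤ i → 1 ≤ i →
      ‖∑ t, α t ^ (2 * i)‖ ≤ ((Module.finrank F M : ℝ) * (2 * genus k M + 1) + 1) * (Nat.card k : ℝ) ^ i := by
  classical
  intro i hi hi1
  obtain ⟨p, hp⟩ := CharP.exists k
  haveI : Fintype k := Fintype.ofFinite _
  obtain ⟨n, hpr, hcardk⟩ := FiniteField.card k p
  haveI := Fact.mk hpr
  set j := 2 * i with hj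
  haveI : NeZero j := ⟨by omega⟩
  have hG : 0 < Module.finrank F M := Module.finrank_pos
  haveI : NeZero (j * Module.finrank F M) := ⟨(Nat.mul_pos (by omega) hG).ne'⟩
  obtain ⟨k', _, _, L, _, _, _, _, _, _, C, hJ⟩ := exists_cext hM (j * Module.finrank F M)
  haveI := C.fin
  haveI := C.finK
  haveI : Finite k' := Module.finite_of_finite k
  let k'' := FiniteField.Extension k p j
  have hjr : Module.finrank k k'' = j := FiniteField.finrank_extension k p j
  obtain ⟨emb⟩ : Nonempty (k'' →ₐ[k] k') :=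
    FiniteField.nonempty_algHom_of_finrank_dvd (by rw [hjr, hJ]; exact dvd_mul_right _ _)
  letI : Algebra k'' k' := emb.toRingHom.toAlgebra
  haveI : IsScalarTower k k'' k' := IsScalarTower.of_algebraMap_eq fun c => (emb.commutes c).symm
  haveI : FiniteDimensional k'' k' := FiniteDimensional.right k k'' k'
  haveI : Finite k'' := Module.finite_of_finite k
  letI : Algebra k'' L := ((algebraMap k' L).comp (algebraMap k'' k')).toAlgebra
  haveI : IsScalarTower k'' k' L := IsScalarTower.of_algebraMap_eq fun _ => rfl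
  haveI : IsScalarTower k k'' L := IsScalarTower.of_algebraMap_eq fun c => by
    show algebraMap k L c = algebraMap k' L (algebraMap k'' k' (algebraMap k k'' c))
    rw [← IsScalarTower.algebraMap_apply k k'' k', ← IsScalarTower.algebraMap_apply]
  letI : Algebra F L := ((algebraMap M L).comp (algebraMap F M)).toAlgebra
  letI : Algebra K L := ((algebraMap M L).comp (algebraMap K M)).toAlgebra
  haveI : IsScalarTower F M L := IsScalarTower.of_algebraMap_eq fun _ => rfl
  haveI : IsScalarTower K M L := IsScalarTower.of_algebraMap_eq fun _ => rfl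
  haveI : IsScalarTower k F L := IsScalarTower.of_algebraMap_eq fun c => by
    show algebraMap k L c = algebraMap M L (algebraMap F M (algebraMap k F c))
    rw [← IsScalarTower.algebraMap_apply k F M, ← IsScalarTower.algebraMap_apply]
  haveI : IsScalarTower k K L := IsScalarTower.of_algebraMap_eq fun c => by
    show algebraMap k L c = algebraMap M L (algebraMap K M (algebraMap k K c))
    rw [← IsScalarTower.algebraMap_apply k K M, ← IsScalarTower.algebraMap_apply]
  haveI : FiniteDimensional F L := FiniteDimensional.trans F M L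
  haveI : FiniteDimensional K L := FiniteDimensional.trans K M L
  haveI : IsGalois F L := isGalois_cext C
  haveI : IsGalois K L := isGalois_cext C
  set Q := (Nat.card k) ^ j with hQ
  have hQc : Nat.card k'' = Q := by rw [hQ, ← hjr, ← Module.natCard_eq_pow_finrank]
  -- the two cosets
  let SF : Finset (L ≃+* L) := (Finset.univ.filter fun σ : L ≃ₐ[F] L =>
    ∀ c : k', σ (algebraMap k' L c) = algebraMap k' L (c ^ Q)).image fun σ => σ.toRingEquiv
  let SK : Finset (L ≃+* L) := (Finset.univ.filter fun σ : L ≃ₐ[K] L =>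
    ∀ c : k', σ (algebraMap k' L c) = algebraMap k' L (c ^ Q)).image fun σ => σ.toRingEquiv
  have hmF : ∀ ρ, ρ ∈ SF ↔ (∀ x : F, ρ (algebraMap F L x) = algebraMap F L x) ∧
      ∀ c : k', ρ (algebraMap k' L c) = algebraMap k' L (c ^ Q) := fun ρ => by
    simp only [SF, Finset.mem_image, Finset.mem_filter, Finset.mem_univ, true_and]
    constructor
    · rintro ⟨σ, hσ, rfl⟩; exact ⟨σ.commutes, hσ⟩
    · rintro ⟨h1, h2⟩; exact ⟨AlgEquiv.ofRingEquiv (f := ρ) h1, h2, RingEquiv.ext fun _ => rfl⟩
  have hmK : ∀ ρ, ρ ∈ SK ↔ (∀ x : K, ρ (algebraMap K L x) = algebraMap K L x) ∧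
      ∀ c : k', ρ (algebraMap k' L c) = algebraMap k' L (c ^ Q) := fun ρ => by
    simp only [SK, Finset.mem_image, Finset.mem_filter, Finset.mem_univ, true_and]
    constructor
    · rintro ⟨σ, hσ, rfl⟩; exact ⟨σ.commutes, hσ⟩
    · rintro ⟨h1, h2⟩; exact ⟨AlgEquiv.ofRingEquiv (f := ρ) h1, h2, RingEquiv.ext fun _ => rfl⟩
  have hsub : SK ⊆ SF := fun ρ hρ => by
    rw [hmK] at hρ
    refine (hmF ρ).2 ⟨fun x => ?_, hρ.2⟩
    rw [show algebraMap F L x = algebraMap K L (algebraMap F K x) from
      congrArg (algebraMap M L) (IsScalarTower.algebraMap_apply F K M x)]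
    exact hρ.1 _
  -- the counts
  have CF := cext_comp (k' := k'') (L := L) hF
  have CK := cext_comp (k' := k'') (L := L) hK
  haveI := CF.finK
  haveI := CK.finK
  haveI : FiniteDimensional (comp F k'' L) L := inferInstance
  have hdvd : ∀ d, d ∣ Module.finrank F M → d * Module.finrank k k'' ∣ Module.finrank k k' := fun d hd => by
    rw [hJ, hjr, mul_comm j]; exact Nat.mul_dvd_mul_right hd j
  haveI : IsScalarTower k'' (comp F k'' L) L := compTower F k'' L
  haveI : IsScalarTower k'' (comp K k'' L) L := compTower K k'' L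
  obtain ⟨-, hcF⟩ := count_eq (k' := k') (L := L) (CF.isFunctionField hF)
    (fun Q P h hP => deg_one_top C hM hF (hdvd _ dvd_rfl) Q P h hP) SF
    (fun ρ => (hmF ρ).trans (mem_twist (k := k) hQc ρ))
  obtain ⟨hKne, hcK⟩ := count_eq (k' := k') (L := L) (CK.isFunctionField hK)
    (fun Q P h hP => deg_one_top C hM hK (hdvd _ (Dvd.intro_left (Module.finrank F K)
      (Module.finrank_mul_finrank F K M))) Q P h hP) SK
    (fun ρ => (hmK ρ).trans (mem_twist (k := k) hQc ρ))
  set NF := Nat.card {P : Place k'' (comp F k'' L) // P.deg = 1}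
  set NK := Nat.card {P : Place k'' (comp K k'' L) // P.deg = 1}
  obtain ⟨β, -, hβ, -⟩ := exists_recip_roots hF
  have hNF : (NF : ℂ) = 1 + (Q : ℂ) := by
    rw [card_deg_one_cext CF hF β (by rw [← hβ, numerC, ← numerP_eq hF, ← Polynomial.polynomial_map_coe]),
      Finset.sum_eq_zero fun t _ => absurd t.2 (by omega), hjr, sub_zero, hQ, Nat.cast_pow]
  have hNF' : NF = 1 + Q := by exact_mod_cast hNF
  have hNK : (NK : ℂ) = 1 + (Q : ℂ) - ∑ t, α t ^ j := by
    rw [card_deg_one_cext CK hK α hα, hjr, hQ, Nat.cast_pow]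
  -- Stepanov on each
  have hgL : genus k' L = genus k M := genus_cext C hM
  haveI : CharP L p := charP_of_injective_algebraMap (algebraMap k L).injective p
  haveI : ExpChar L p := .prime hpr
  have hLf : IsFunctionField k' L := C.isFunctionField hM
  have hqi : p ^ ((n : ℕ) * i) = Nat.card k ^ i := by rw [Nat.card_eq_fintype_card, hcardk, pow_mul]
  have hQ2 : Q = Nat.card k ^ i * Nat.card k ^ i := by rw [hQ, hj, two_mul, pow_add]
  set B := (2 * genus k M + 1) * Nat.card k ^ i
  have hbound : ∀ ρ ∈ SF, (fixSet k' ρ).ncard ≤ Q + B := fun ρ hρ => by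
    have h := stepanov hLf ρ ((n : ℕ) * i) (p := p)
      (fun c => by rw [((hmF ρ).1 hρ).2 c, hqi, ← hQ2])
      (by
        rw [hgL, hqi]
        exact lt_of_le_of_lt hi (Nat.lt_pow_self (Finite.one_lt_card : 1 < Nat.card k)))
    rwa [hgL, hqi, ← hQ2] at h
  have hcardF : SF.card ≤ Module.finrank F M := by
    refine le_trans ?_ (card_algHom_le_finrank F M L)
    rw [← Nat.card_eq_finsetCard]
    refine Nat.card_le_card_of_injective
      (fun ρ : SF => (AlgEquiv.ofRingEquiv (f := ρ.1) ((hmF ρ.1).1 ρ.2).1 : L →ₐ[F] L).comp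
        (IsScalarTower.toAlgHom F M L)) fun a b hab => Subtype.ext (RingEquiv.ext fun z => ?_)
    have hab' : ∀ x : M, a.1 (algebraMap M L x) = b.1 (algebraMap M L x) := fun x => DFunLike.congr_fun hab x
    have hz : z ∈ (Algebra.adjoin M (Set.range (algebraMap k' L)) : Subalgebra M L) := C.gen ▸ Algebra.mem_top
    induction hz using Algebra.adjoin_induction with
    | mem x hx => obtain ⟨c, rfl⟩ := hx; rw [((hmF a.1).1 a.2).2 c, ((hmF b.1).1 b.2).2 c]
    | algebraMap x => exact hab' x
    | add x y _ _ h1 h2 => rw [map_add, map_add, h1, h2]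
    | mul x y _ _ h1 h2 => rw [map_mul, map_mul, h1, h2]
  have hU : ∑ ρ ∈ SK, (fixSet k' ρ).ncard ≤ SK.card * (Q + B) := by
    rw [← smul_eq_mul, ← Finset.sum_const]
    exact Finset.sum_le_sum fun ρ hρ => hbound ρ (hsub hρ)
  have hD : ∑ ρ ∈ SF \ SK, (fixSet k' ρ).ncard ≤ (SF \ SK).card * (Q + B) := by
    rw [← smul_eq_mul, ← Finset.sum_const]
    exact Finset.sum_le_sum fun ρ hρ => hbound ρ (Finset.sdiff_subset hρ)
  rw [← Finset.sum_sdiff hsub, hNF', hcK, ← Finset.card_sdiff_add_card_eq_card hsub] at hcF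
  rw [hcK] at hU
  rw [← Finset.card_sdiff_add_card_eq_card hsub] at hcardF
  have hs : 1 ≤ SK.card := hKne.card_pos
  have h1 : NK ≤ Q + B := Nat.le_of_mul_le_mul_left hU hs
  have h2 : Q + 1 ≤ NK + Module.finrank F M * B := by
    by_contra hlt
    push Not at hlt
    have e1 : SK.card * (NK + Module.finrank F M * B + 1) ≤ SK.card * (Q + 1) := Nat.mul_le_mul_left _ hlt
    have e2 : (SF \ SK).card * B ≤ Module.finrank F M * B := Nat.mul_le_mul_right _ (by omega)
    have e3 : Module.finrank F M * B ≤ SK.card * (Module.finrank F M * B) := Nat.le_mul_of_pos_left _ hs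
    nlinarith
  have hsum : ∑ t, α t ^ j = (((1 + (Q : ℤ) - NK : ℤ)) : ℂ) := by
    push_cast
    linear_combination hNK
  rw [hsum, Complex.norm_intCast]
  have e : ((Module.finrank F M : ℝ) * (2 * genus k M + 1) + 1) * (Nat.card k : ℝ) ^ i =
      ((Module.finrank F M * B + Nat.card k ^ i : ℕ) : ℝ) := by
    simp only [B]; push_cast; ring
  rw [e]
  have hq1 : 1 ≤ Nat.card k ^ i := Nat.one_le_pow _ _ Nat.card_pos
  have h3 : B ≤ Module.finrank F M * B := Nat.le_mul_of_pos_left _ hG
  have h4 : |1 + (Q : ℤ) - NK| ≤ ((Module.finrank F M * B + Nat.card k ^ i : ℕ) : ℤ) := abs_le.2 ⟨by omega, by omega⟩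
  exact_mod_cast h4

/-- One-sided in `i`, a bound on the power sums bounds every term. -/
theorem norm_le_of_power_sums {ι : Type*} [Fintype ι] (α : ι → ℂ) {j₀ : ℕ} (hj : 1 ≤ j₀) {s C : ℝ} (hs : 0 < s)
    (I : ℕ) (h : ∀ i ≥ I, ‖∑ t, α t ^ (j₀ * i)‖ ≤ C * (s ^ j₀) ^ i) (t : ι) : ‖α t‖ ≤ s := by
  classical
  obtain ⟨t₀, -, hmax⟩ := Finset.exists_max_image Finset.univ (fun t => ‖α t‖) ⟨t, Finset.mem_univ t⟩
  refine (hmax t (Finset.mem_univ t)).trans (not_lt.1 fun hlt => ?_)
  set ρ := ‖α t₀‖
  have hρ : 0 < ρ := hs.trans hlt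
  let w : ι → ℂ := fun t => (α t / (ρ : ℂ)) ^ j₀
  have hwn : ∀ t, ‖w t‖ = (‖α t‖ / ρ) ^ j₀ := fun t => by
    rw [norm_pow, norm_div, Complex.norm_real, Real.norm_of_nonneg hρ.le]
  have hw1 : ∀ t, ‖w t‖ ≤ 1 := fun t => by
    rw [hwn]; exact pow_le_one₀ (by positivity) ((div_le_one hρ).2 (hmax t (Finset.mem_univ t)))
  let T := Finset.univ.filter fun t => ‖w t‖ = 1
  have hT : t₀ ∈ T := Finset.mem_filter.2 ⟨Finset.mem_univ _, by rw [hwn, div_self hρ.ne', one_pow]⟩
  let r := s ^ j₀ / ρ ^ j₀
  have hr0 : 0 ≤ r := by positivity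
  have hr1 : r < 1 := (div_lt_one (by positivity)).2 (pow_lt_pow_left₀ hlt hs.le (by omega))
  have hev : ∀ᶠ i : ℕ in atTop, C * r ^ i + ∑ t ∈ Finset.univ \ T, ‖w t‖ ^ i < 1 / 4 ∧ I ≤ i := by
    refine Filter.Eventually.and ?_ (eventually_ge_atTop I)
    have h1 : Tendsto (fun i : ℕ => C * r ^ i + ∑ t ∈ Finset.univ \ T, ‖w t‖ ^ i) atTop (𝓝 (C * 0 + ∑ t ∈ Finset.univ \ T, (0 : ℝ))) := by
      refine ((tendsto_pow_atTop_nhds_zero_of_lt_one hr0 hr1).const_mul C).add
        (tendsto_finsetSum _ fun t ht => tendsto_pow_atTop_nhds_zero_of_lt_one (norm_nonneg _) ?_)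
      simp only [T, Finset.mem_sdiff, Finset.mem_filter, Finset.mem_univ, true_and] at ht
      exact lt_of_le_of_ne (hw1 t) ht
    rw [mul_zero, Finset.sum_const_zero, add_zero] at h1
    exact h1.eventually_lt_const (by norm_num)
  obtain ⟨i₀, hi₀⟩ := eventually_atTop.1 hev
  obtain ⟨a, -, φ, hφ, hlim⟩ := (isCompact_closedBall (0 : ι → ℂ) 1).tendsto_subseq
    (x := fun n => fun t => w t ^ n) fun n => by
      rw [Metric.mem_closedBall, dist_zero_right, pi_norm_le_iff_of_nonneg zero_le_one]
      exact fun t => by rw [norm_pow]; exact pow_le_one₀ (norm_nonneg _) (hw1 t)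
  obtain ⟨N, hN⟩ := Metric.cauchySeq_iff.1 hlim.cauchySeq (1 / 4) (by norm_num)
  set b := N + i₀ + φ N
  have hle : φ N + i₀ ≤ φ b := le_trans (by omega) (hφ.le_apply (x := b))
  set i := φ b - φ N
  obtain ⟨hsmall, hI⟩ := hi₀ i (by omega)
  have hnear : ∀ t ∈ T, ‖w t ^ i - 1‖ ≤ 1 / 4 := fun t ht => by
    have hd := hN b (by omega) N le_rfl
    rw [dist_eq_norm] at hd
    have h1 := (norm_le_pi_norm (((fun n => fun t => w t ^ n) ∘ φ) b - ((fun n => fun t => w t ^ n) ∘ φ) N) t).trans hd.le
    simp only [Function.comp_apply, Pi.sub_apply] at h1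
    rw [show φ b = φ N + i by omega, pow_add, show w t ^ φ N * w t ^ i - w t ^ φ N = w t ^ φ N * (w t ^ i - 1) by ring,
      norm_mul, norm_pow, (Finset.mem_filter.1 ht).2, one_pow, one_mul] at h1
    exact h1
  have hsum : ‖∑ t, w t ^ i‖ ≤ C * r ^ i := by
    have e : ∑ t, w t ^ i = (∑ t, α t ^ (j₀ * i)) / (ρ : ℂ) ^ (j₀ * i) := by
      rw [Finset.sum_div]
      exact Finset.sum_congr rfl fun t _ => by rw [← pow_mul, div_pow]
    rw [e, norm_div, norm_pow, Complex.norm_real, Real.norm_of_nonneg hρ.le, div_pow, ← mul_div_assoc,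
      ← pow_mul, ← pow_mul]
    refine div_le_div_of_nonneg_right ?_ (by positivity)
    rw [pow_mul s]
    exact h i hI
  have hlow : (3 / 4 : ℝ) ≤ ‖∑ t ∈ T, w t ^ i‖ := by
    have h1 : ‖∑ t ∈ T, (w t ^ i - 1)‖ ≤ T.card * (1 / 4) := by
      refine (norm_sum_le _ _).trans ((Finset.sum_le_sum hnear).trans ?_)
      rw [Finset.sum_const, nsmul_eq_mul]
    rw [Finset.sum_sub_distrib, Finset.sum_const, nsmul_eq_mul, mul_one] at h1
    have h2 := norm_sub_norm_le ((T.card : ℂ)) (∑ t ∈ T, w t ^ i)
    rw [norm_sub_rev] at h2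
    rw [Complex.norm_natCast] at h2
    have h3 : (1 : ℝ) ≤ T.card := by exact_mod_cast Finset.card_pos.2 ⟨t₀, hT⟩
    linarith
  have hsplit := Finset.sum_sdiff (f := fun t => w t ^ i) (Finset.subset_univ T)
  have h2 : ‖∑ t ∈ T, w t ^ i‖ ≤ ‖∑ t, w t ^ i‖ + ‖∑ t ∈ Finset.univ \ T, w t ^ i‖ := by
    rw [show ∑ t ∈ T, w t ^ i = (∑ t, w t ^ i) - ∑ t ∈ Finset.univ \ T, w t ^ i by rw [← hsplit]; ring]
    exact norm_sub_le _ _
  have h3 : ‖∑ t ∈ Finset.univ \ T, w t ^ i‖ ≤ ∑ t ∈ Finset.univ \ T, ‖w t‖ ^ i :=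
    (norm_sum_le _ _).trans_eq (Finset.sum_congr rfl fun t _ => norm_pow _ _)
  linarith

/-- `|α| ≤ √q`, given a Galois cover and its constants. -/
theorem norm_root_le_base {k F K M k1 : Type*} [Field k] [Finite k] [Field F] [Field K] [Field M] [Field k1]
    [Algebra k F] [Algebra k K] [Algebra k M] [Algebra F K] [Algebra F M] [Algebra K M] [IsScalarTower k F K]
    [IsScalarTower k F M] [IsScalarTower k K M] [IsScalarTower F K M] [FiniteDimensional F M]
    [FiniteDimensional K M] [IsGalois F M] [IsGalois K M]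
    [Algebra k k1] [FiniteDimensional k k1] [Algebra k1 M] [IsScalarTower k k1 M]
    (hF : IsFunctionField k F) (hF0 : genus k F = 0) (hK : IsFunctionField k K) (hM : IsFunctionField k1 M)
    {ι : Type*} [Fintype ι] (α : ι → ℂ)
    (hα : PowerSeries.map (Int.castRingHom ℂ) (numerZ k K) =
      ((∏ i, (1 - Polynomial.C (α i) * Polynomial.X) : Polynomial ℂ) : PowerSeries ℂ)) (t : ι) :
    ‖α t‖ ≤ Real.sqrt (Nat.card k) := by
  classical
  haveI : Finite k1 := Module.finite_of_finite k
  -- base change to `k1`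
  have CF := cext_comp (k' := k1) (L := M) hF
  have CK := cext_comp (k' := k1) (L := M) hK
  haveI := CF.finK
  haveI := CK.finK
  have hle : comp F k1 M ≤ (comp K k1 M).restrictScalars F :=
    adjoin_le_iff.2 fun z hz => subset_adjoin K _ hz
  letI : Algebra (comp F k1 M) (comp K k1 M) :=
    ((algebraMap (comp F k1 M) M).codRestrict (comp K k1 M) fun z => hle z.2).toAlgebra
  haveI : IsScalarTower (comp F k1 M) (comp K k1 M) M := IsScalarTower.of_algebraMap_eq fun _ => rfl
  set d := Module.finrank k k1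
  have hd : 1 ≤ d := Module.finrank_pos
  have hα1 := numerZ_cext CK hK α hα
  have key := rh_core (CF.isFunctionField hF) (CK.isFunctionField hK) hM (by rw [genus_cext CF hF, hF0])
    (fun t => α t ^ d) hα1
  have hq : Nat.card k1 = Nat.card k ^ d := Module.natCard_eq_pow_finrank
  refine norm_le_of_power_sums α (C := (Module.finrank (comp F k1 M) M : ℝ) * (2 * genus k1 M + 1) + 1)
    (j₀ := 2 * d) (by omega) (Real.sqrt_pos.2 (by exact_mod_cast Nat.card_pos))
    ((genus k1 M + 1) ^ 2 + 1) (fun i hi => ?_) t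
  have h := key i (by omega) (by omega)
  simp only [← pow_mul, hq, Nat.cast_pow] at h
  rw [pow_mul (Real.sqrt _) 2 d, Real.sq_sqrt (Nat.cast_nonneg _), ← pow_mul _ d i]
  convert h using 4
  ring

/-- `|α| ≤ √q`, given a Galois cover. -/
theorem norm_root_le_cover {k F K M : Type*} [Field k] [Finite k] [Field F] [Field K] [Field M]
    [Algebra k F] [Algebra k K] [Algebra k M] [Algebra F K] [Algebra F M] [Algebra K M] [IsScalarTower k F K]
    [IsScalarTower k F M] [IsScalarTower k K M] [IsScalarTower F K M] [FiniteDimensional F M]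
    [FiniteDimensional K M] [IsGalois F M] [IsGalois K M]
    (hF : IsFunctionField k F) (hF0 : genus k F = 0) (hK : IsFunctionField k K)
    {ι : Type*} [Fintype ι] (α : ι → ℂ)
    (hα : PowerSeries.map (Int.castRingHom ℂ) (numerZ k K) =
      ((∏ i, (1 - Polynomial.C (α i) * Polynomial.X) : Polynomial ℂ) : PowerSeries ℂ)) (t : ι) :
    ‖α t‖ ≤ Real.sqrt (Nat.card k) := by
  classical
  -- the constants of `M`
  have hMff : IsFF k M := isFF_ext (K' := M) hF.1
  let k1 : IntermediateField k M := algebraicClosure k M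
  haveI : Finite k1 := by
    haveI : Finite (Polynomial.degreeLT k (Module.finrank F M + 1)) :=
      Finite.of_equiv _ (Polynomial.degreeLTEquiv k (Module.finrank F M + 1)).toEquiv.symm
    have hsub : (k1 : Set M) ⊆ ⋃ p : {p : Polynomial.degreeLT k (Module.finrank F M + 1) // (p : Polynomial k) ≠ 0},
        {z | z ∈ (p.1 : Polynomial k).rootSet M} := fun z hz => by
      have hint : IsIntegral k z := (mem_algebraicClosure_iff.1 hz).isIntegral
      have hirr := irreducible_map hF.2 (minpoly.monic hint) (minpoly.irreducible hint)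
      have hmin : (minpoly k z).map (algebraMap k F) = minpoly F z :=
        minpoly.eq_of_irreducible_of_monic hirr (by rw [Polynomial.aeval_map_algebraMap, minpoly.aeval])
          ((minpoly.monic hint).map _)
      have hd : (minpoly k z).natDegree ≤ Module.finrank F M := by
        rw [← Polynomial.natDegree_map (algebraMap k F), hmin]; exact minpoly.natDegree_le z
      refine Set.mem_iUnion.2 ⟨⟨⟨minpoly k z, ?_⟩, minpoly.ne_zero hint⟩, ?_⟩
      · rw [Polynomial.mem_degreeLT, Polynomial.degree_eq_natDegree (minpoly.ne_zero hint)]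
        exact_mod_cast Nat.lt_succ_of_le hd
      · show z ∈ (minpoly k z).rootSet M
        rw [Polynomial.mem_rootSet]
        exact ⟨minpoly.ne_zero hint, minpoly.aeval k z⟩
    exact ((Set.finite_iUnion fun p => (Polynomial.rootSet_finite _ M)).subset hsub).to_subtype
  haveI : FiniteDimensional k k1 := Module.Finite.of_finite
  have hM : IsFunctionField k1 M := by
    refine ⟨?_, fun y hy => ?_⟩
    · obtain ⟨y, hy, hfin⟩ := hMff
      haveI : Algebra.IsAlgebraic k k1 := Algebra.IsAlgebraic.of_finite k k1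
      refine ⟨y, hy.extendScalars k1, ?_⟩
      let F' : IntermediateField k1 M := IntermediateField.adjoin k1 ({y} : Set M)
      have hle : IntermediateField.adjoin k ({y} : Set M) ≤ F'.restrictScalars k :=
        adjoin_le_iff.2 (Set.singleton_subset_iff.2 (mem_adjoin_simple_self k1 y))
      haveI := hfin
      exact FiniteDimensional.right (IntermediateField.adjoin k ({y} : Set M))
        (IntermediateField.extendScalars hle) M
    · haveI : Algebra.IsAlgebraic k k1 := Algebra.IsAlgebraic.of_finite k k1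
      exact ⟨⟨y, mem_algebraicClosure_iff.2 (hy.restrictScalars k)⟩, rfl⟩
  exact norm_root_le_base (k1 := k1) hF hF0 hK hM α hα t

/-- `|α| ≤ √q`, given a rational subfield. -/
theorem norm_root_le_aux {k F K : Type*} [Field k] [Finite k] [Field F] [Field K] [Algebra k F] [Algebra k K]
    [Algebra F K] [IsScalarTower k F K] [FiniteDimensional F K] [Algebra.IsSeparable F K]
    (hF : IsFunctionField k F) (hF0 : genus k F = 0) (hK : IsFunctionField k K)
    {ι : Type*} [Fintype ι] (α : ι → ℂ)
    (hα : PowerSeries.map (Int.castRingHom ℂ) (numerZ k K) =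
      ((∏ i, (1 - Polynomial.C (α i) * Polynomial.X) : Polynomial ℂ) : PowerSeries ℂ)) (t : ι) :
    ‖α t‖ ≤ Real.sqrt (Nat.card k) := by
  classical
  let Ω := SeparableClosure F
  let f : K →ₐ[F] Ω := IsSepClosed.lift
  letI : Algebra K Ω := f.toRingHom.toAlgebra
  haveI : IsScalarTower F K Ω := IsScalarTower.of_algebraMap_eq fun c => (f.commutes c).symm
  let M := IntermediateField.normalClosure F K Ω
  haveI : FiniteDimensional K M := FiniteDimensional.right F K M
  haveI : IsGalois K M := IsGalois.tower_top_of_isGalois F K M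
  letI : Algebra k M := ((algebraMap F M).comp (algebraMap k F)).toAlgebra
  haveI : IsScalarTower k F M := IsScalarTower.of_algebraMap_eq fun _ => rfl
  haveI : IsScalarTower k K M := IsScalarTower.of_algebraMap_eq fun c => by
    show algebraMap F M (algebraMap k F c) = _
    rw [IsScalarTower.algebraMap_apply F K M, ← IsScalarTower.algebraMap_apply k F K]
  exact norm_root_le_cover (M := M) hF hF0 hK α hα t

/-- `|α| ≤ √q`. -/
theorem norm_root_le {k K : Type*} [Field k] [Finite k] [Field K] [Algebra k K] (hK : IsFunctionField k K)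
    {ι : Type*} [Fintype ι] (α : ι → ℂ)
    (hα : PowerSeries.map (Int.castRingHom ℂ) (numerZ k K) =
      ((∏ i, (1 - Polynomial.C (α i) * Polynomial.X) : Polynomial ℂ) : PowerSeries ℂ)) (t : ι) :
    ‖α t‖ ≤ Real.sqrt (Nat.card k) := by
  obtain ⟨x, hx, hsep⟩ := exists_separating_perfect hK.1
  haveI := finite_over_adjoin hK.1 hx
  set F := k⟮x⟯
  let x' : F := ⟨x, mem_adjoin_simple_self k x⟩
  have htop : k⟮x'⟯ = ⊤ := by
    refine IntermediateField.map_injective F.val ?_
    rw [adjoin_map, Set.image_singleton, ← AlgHom.fieldRange_eq_map, fieldRange_val]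
    rfl
  have hF : IsFunctionField k F := by
    refine ⟨⟨x', fun h => hx (h.algHom F.val), ?_⟩, fun y hy => ?_⟩
    · rw [htop]; exact Module.finite_of_finrank_pos (by rw [IntermediateField.finrank_top]; exact one_pos)
    · obtain ⟨c, hc⟩ := hK.2 (y : K) (hy.algHom F.val)
      exact ⟨c, Subtype.ext hc⟩
  exact norm_root_le_aux hF (genus_eq_zero_of_adjoin_eq_top hF htop) hK α hα t

/-- `|α| = √q`. -/
theorem norm_recip_root {k K : Type*} [Field k] [Finite k] [Field K] [Algebra k K] (hK : IsFunctionField k K) :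
    ∃ α : Fin (2 * genus k K) → ℂ, numerC k K = ∏ i, (1 - Polynomial.C (α i) * Polynomial.X) ∧
      PowerSeries.map (Int.castRingHom ℂ) (numerZ k K) =
        ((∏ i, (1 - Polynomial.C (α i) * Polynomial.X) : Polynomial ℂ) : PowerSeries ℂ) ∧
      ∀ i, ‖α i‖ = Real.sqrt (Nat.card k) := by
  obtain ⟨α, -, hL, hpair⟩ := exists_recip_roots hK
  have hα : PowerSeries.map (Int.castRingHom ℂ) (numerZ k K) =
      ((∏ i, (1 - Polynomial.C (α i) * Polynomial.X) : Polynomial ℂ) : PowerSeries ℂ) := by
    rw [← hL, numerC, ← numerP_eq hK, ← Polynomial.polynomial_map_coe]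
  refine ⟨α, hL, hα, fun i => le_antisymm (norm_root_le hK α hα i) (not_lt.1 fun hlt => ?_)⟩
  have h := congrArg norm (hpair i)
  rw [norm_mul, Complex.norm_natCast, ← Real.mul_self_sqrt (Nat.cast_nonneg (Nat.card k))] at h
  have h1 := norm_root_le hK α hα (Fin.rev i)
  have h2 : 0 < Real.sqrt (Nat.card k) := Real.sqrt_pos.2 (by exact_mod_cast Nat.card_pos)
  nlinarith [norm_nonneg (α i)]

end Groth.Agent.Zeta
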